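import Groth.Agent.PBC.Model
import Groth.Agent.AmpleVan.Uniform
import Groth.Agent.HilbPoly.Poly
import Groth.Agent.QCoh.RpushExchange2
import Groth.Agent.QCoh.RpushStalk
import Groth.Agent.FamEuler.Main
import Groth.Agent.KFlatLib.Scheme.QCohTensor
import Groth.Agent.ExtShX.Basic
import Groth.Prelude.Def_PerfAux

/-!
# Fibre cohomology of flat modules over an arbitrary base
-/

set_option autoImplicit false
set_option linter.style.haveILetI false
set_option backward.isDefEq.respectTransparency false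
set_option backward.isDefEq.respectTransparency.types false

universe u

open CategoryTheory CategoryTheory.Limits AlgebraicGeometry TopologicalSpace

noncomputable section

namespace Groth.Agent.PBC

open Groth.Agent

variable {X S : Scheme.{u}}

theorem betti_eq_fiberRank (f : X ⟶ S) (F : X.Modules) (s : S) (i : ℕ) :
    PerfAux.betti f F s i = CohIII.fiberRank f F i s := rfl

/-- The fibre dimensions are invariant under base change. -/
theorem fiberRank_bc {X₁ S₁ : Scheme.{u}} {f : X ⟶ S} {f₁ : X₁ ⟶ S₁} {q : X ⟶ X₁} {ρ : S ⟶ S₁}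
    [IsProper f₁] (h : IsPullback q f f₁ ρ) {N : X₁.Modules} (hN : Coh.IsQCoh N) (n : ℕ) (s : S) :
    CohIII.fiberRank f ((Scheme.Modules.pullback q).obj N) n s = CohIII.fiberRank f₁ N n (ρ s) := by
  let φ := ρ.residueFieldMap s
  have hρ : Spec.map φ ≫ S₁.fromSpecResidueField (ρ s) = S.fromSpecResidueField s ≫ ρ :=
    Scheme.Hom.SpecMap_residueFieldMap_fromSpecResidueField ρ s
  have sq₁ : IsPullback (f.fiberι s ≫ q) (f.fiberToSpecResidueField s) f₁
      (S.fromSpecResidueField s ≫ ρ) :=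
    (IsPullback.of_hasPullback f (S.fromSpecResidueField s)).paste_horiz h
  let θ : f.fiber s ⟶ f₁.fiber (ρ s) :=
    pullback.lift (f.fiberι s ≫ q) (f.fiberToSpecResidueField s ≫ Spec.map φ)
      (by rw [sq₁.w, Category.assoc, hρ])
  have hθ : θ ≫ f₁.fiberι (ρ s) = f.fiberι s ≫ q := pullback.lift_fst _ _ _
  have hθ' : θ ≫ f₁.fiberToSpecResidueField (ρ s) = f.fiberToSpecResidueField s ≫ Spec.map φ :=
    pullback.lift_snd _ _ _
  letI : Algebra (S₁.residueField (ρ s) : Type u) (S.residueField s : Type u) := φ.hom.toAlgebra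
  letI : (f.fiber s).Over (Spec (CommRingCat.of (S.residueField s : Type u))) :=
    ⟨f.fiberToSpecResidueField s⟩
  letI : (f₁.fiber (ρ s)).Over (Spec (CommRingCat.of (S₁.residueField (ρ s) : Type u))) :=
    ⟨f₁.fiberToSpecResidueField (ρ s)⟩
  haveI : IsProper (f₁.fiberToSpecResidueField (ρ s)) :=
    inferInstanceAs (IsProper (pullback.snd f₁ (S₁.fromSpecResidueField (ρ s))))
  haveI : IsProper ((f₁.fiber (ρ s)) ↘ Spec (CommRingCat.of (S₁.residueField (ρ s) : Type u))) :=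
    inferInstanceAs (IsProper (f₁.fiberToSpecResidueField (ρ s)))
  haveI : CompactSpace (f₁.fiber (ρ s) : Scheme.{u}) :=
    AmpleVan.compactSpace_of_proper (A := (S₁.residueField (ρ s) : Type u)) (X := f₁.fiber (ρ s))
  haveI : (f₁.fiber (ρ s)).IsSeparated :=
    AmpleVan.isSeparated_of_proper (A := (S₁.residueField (ρ s) : Type u)) (X := f₁.fiber (ρ s))
  have hpb : IsPullback θ ((f.fiber s) ↘ Spec (CommRingCat.of (S.residueField s : Type u)))
      ((f₁.fiber (ρ s)) ↘ Spec (CommRingCat.of (S₁.residueField (ρ s) : Type u)))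
      (Spec.map φ) :=
    IsPullback.of_right (by change IsPullback (θ ≫ f₁.fiberι (ρ s)) (f.fiberToSpecResidueField s) f₁ _; rw [hθ, hρ]; exact sq₁) hθ'
      (IsPullback.of_hasPullback f₁ (S₁.fromSpecResidueField (ρ s)))
  let e : (Scheme.Modules.pullback θ).obj ((Scheme.Modules.pullback (f₁.fiberι (ρ s))).obj N) ≅
      (Scheme.Modules.pullback (f.fiberι s)).obj ((Scheme.Modules.pullback q).obj N) :=
    (Scheme.Modules.pullbackComp θ _).app N ≪≫ (Scheme.Modules.pullbackCongr hθ).app N ≪≫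
      ((Scheme.Modules.pullbackComp _ q).app N).symm
  obtain ⟨l⟩ := QCoh.nonempty_HH_flat_bc (A := (S₁.residueField (ρ s) : Type u))
    (B := (S.residueField s : Type u)) θ hpb (QCoh.isQCoh_pullback (f₁.fiberι (ρ s)) hN) n
  have he := HilbPoly.finrank_HH_iso (S.residueField s : Type u) e n
  rw [l.finrank_eq, Module.finrank_baseChange] at he
  exact he.symm

/-- Semicontinuity over a noetherian base. -/
theorem isOpen_fiberRank_lt_noeth [IsLocallyNoetherian S] (f : X ⟶ S) [IsProper f] {F : X.Modules}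
    (hF : Coh.IsCoh F) (hfl : FlatMod.IsFlatOver f F) (p n : ℕ) :
    IsOpen {s : S | CohIII.fiberRank f F p s < n} := by
  refine isOpen_iff_mem_nhds.2 fun y hy => ?_
  obtain ⟨_, ⟨V, hV, rfl⟩, hyV, -⟩ :=
    S.isBasis_affineOpens.exists_subset_of_mem_open (Set.mem_univ y) isOpen_univ
  have hV' : IsAffineOpen V := hV
  haveI : IsNoetherianRing Γ(S, V) := IsLocallyNoetherian.component_noetherian ⟨V, hV'⟩
  obtain ⟨P, hP⟩ := QCoh.exists_isLocalModel hF hfl hV'
  have hd : ∀ z (hz : z ∈ V), CohIII.fiberRank f F p z =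
      CohIII.dRank P (-(p : ℤ)) (hV'.primeIdealOf ⟨z, hz⟩) := fun z hz => (hP.2.2.2.2.2 p z hz).1
  have hfp : ∀ i, Module.FinitePresentation Γ(S, V) (P.X i) := fun i => by
    haveI := hP.1 i; exact Module.finitePresentation_of_finite _ _
  have husc := FlatCxLib.upperSemicontinuous_dRank P hfp hP.flat (-(p : ℤ))
    (hV'.primeIdealOf ⟨y, hyV⟩) n (by show _ < n; rw [← hd y hyV]; exact hy)
  obtain ⟨W, hW, hWo, hyW⟩ := eventually_nhds_iff.1 husc
  have hc : Continuous fun z : V => hV'.primeIdealOf z := by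
    unfold IsAffineOpen.primeIdealOf
    exact hV'.isoSpec.hom.continuous
  refine mem_nhds_iff.2 ⟨Subtype.val '' ((fun z : V => hV'.primeIdealOf z) ⁻¹' W), ?_,
    V.isOpen.isOpenMap_subtype_val _ (hWo.preimage hc), ⟨⟨y, hyV⟩, hyW, rfl⟩⟩
  rintro _ ⟨z, hz, rfl⟩
  change CohIII.fiberRank f F p z < n
  rw [hd z.1 z.2]
  exact hW _ hz

/-- Fibre dimensions of isomorphic modules. -/
theorem fiberRank_congr (f : X ⟶ S) {M N : X.Modules} (e : M ≅ N) (p : ℕ) (z : S) :
    CohIII.fiberRank f M p z = CohIII.fiberRank f N p z := by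
  letI : (f.fiber z).Over (Spec (CommRingCat.of (S.residueField z : Type u))) :=
    ⟨f.fiberToSpecResidueField z⟩
  exact HilbPoly.finrank_HH_iso (S.residueField z : Type u)
    ((Scheme.Modules.pullback (f.fiberι z)).mapIso e) p

/-- Fibre dimensions over an open of the base. -/
theorem fiberRank_restrict (f : X ⟶ S) [IsProper f] {F : X.Modules} (hF : Coh.IsQCoh F) (V : S.Opens)
    (p : ℕ) (z : V) :
    CohIII.fiberRank (f ∣_ V) ((Scheme.Modules.pullback (f ⁻¹ᵁ V).ι).obj F) p z =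
      CohIII.fiberRank f F p z.1 :=
  fiberRank_bc (IsPullback.flip (isPullback_morphismRestrict f V)) hF p z

/-- Locally the fibre dimensions come from a noetherian base. -/
theorem exists_local_model (f : X ⟶ S) [IsProper f] [LocallyOfFinitePresentation f]
    (F : X.Modules) (hF : CohB1.IsFP F) (hfl : FlatMod.IsFlatOver f F) (V : S.Opens)
    (hV : IsAffineOpen V) :
    ∃ (S₁ X₁ : Scheme.{u}) (ρ : (V : Scheme.{u}) ⟶ S₁) (f₁ : X₁ ⟶ S₁)
      (q : (f ⁻¹ᵁ V : Scheme.{u}) ⟶ X₁) (F₁ : X₁.Modules),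
      IsNoetherian S₁ ∧ IsAffine S₁ ∧ IsProper f₁ ∧ IsPullback q (f ∣_ V) f₁ ρ ∧ Coh.IsCoh F₁ ∧
        FlatMod.IsFlatOver f₁ F₁ ∧
        ∀ (p : ℕ) (z : V), CohIII.fiberRank f F p z.1 = CohIII.fiberRank f₁ F₁ p (ρ z) := by
  haveI : IsAffine (V : Scheme.{u}) := hV
  obtain ⟨S₁, X₁, ρ, f₁, q, F₁, hN, hA, hp, hsq, hF₁, hfl₁, ⟨θ⟩⟩ :=
    exists_flat_mod_model (f ∣_ V) ((Scheme.Modules.pullback (f ⁻¹ᵁ V).ι).obj F)
      (ModStLib.isFP_pullback _ hF) (fun x =>
        (FibFlatMod.flatAt_openImmersion (f := f) (f' := f ∣_ V) (jX := (f ⁻¹ᵁ V).ι) (jY := V.ι)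
          (morphismRestrict_ι f V) F x).2 (hfl _))
  refine ⟨S₁, X₁, ρ, f₁, q, F₁, hN, hA, hp, hsq, hF₁, hfl₁, fun p z => ?_⟩
  haveI := hp
  exact (fiberRank_restrict f (QCoh.isQCoh_of_isFP hF) V p z).symm.trans
    ((fiberRank_congr (f ∣_ V) θ.symm p z).trans (fiberRank_bc hsq hF₁.1 p z))

/-- Semicontinuity over any base. -/
theorem isOpen_fiberRank_lt (f : X ⟶ S) [IsProper f] [LocallyOfFinitePresentation f] (F : X.Modules)
    (hF : CohB1.IsFP F) (hfl : FlatMod.IsFlatOver f F) (p n : ℕ) :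
    IsOpen {s : S | CohIII.fiberRank f F p s < n} := by
  refine isOpen_iff_mem_nhds.2 fun y hy => ?_
  obtain ⟨_, ⟨(V : S.Opens), hV, rfl⟩, hyV, -⟩ :=
    S.isBasis_affineOpens.exists_subset_of_mem_open (Set.mem_univ y) isOpen_univ
  obtain ⟨S₁, X₁, ρ, f₁, q, F₁, hN, -, hp, hsq, hF₁, hfl₁, hkey⟩ := exists_local_model f F hF hfl V hV
  have hopen := (isOpen_fiberRank_lt_noeth f₁ hF₁ hfl₁ p n).preimage ρ.continuous
  refine mem_nhds_iff.2 ⟨Subtype.val '' (ρ ⁻¹' {s | CohIII.fiberRank f₁ F₁ p s < n}), ?_,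
    V.isOpen.isOpenMap_subtype_val _ hopen, ⟨⟨y, hyV⟩, ?_, rfl⟩⟩
  · rintro _ ⟨z, hz, rfl⟩
    change CohIII.fiberRank f F p z < n
    rw [hkey p z]
    exact hz
  · change CohIII.fiberRank f₁ F₁ p _ < n
    rw [← hkey p ⟨y, hyV⟩]
    exact hy

/-- The Euler characteristic of the fibres is locally constant over any base. -/
theorem isLocallyConstant_eulerChar (f : X ⟶ S) [IsProper f] [LocallyOfFinitePresentation f]
    (F : X.Modules) (hF : CohB1.IsFP F) (hfl : FlatMod.IsFlatOver f F) :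
    IsLocallyConstant (fun s : S => PerfAux.eulerChar f F s) := by
  refine (IsLocallyConstant.iff_exists_open _).2 fun y => ?_
  obtain ⟨_, ⟨(V : S.Opens), hV, rfl⟩, hyV, -⟩ :=
    S.isBasis_affineOpens.exists_subset_of_mem_open (Set.mem_univ y) isOpen_univ
  obtain ⟨S₁, X₁, ρ, f₁, q, F₁, hN, -, hp, hsq, hF₁, hfl₁, hkey⟩ := exists_local_model f F hF hfl V hV
  obtain ⟨U, hU, hyU, hc⟩ := (IsLocallyConstant.iff_exists_open _).1
    (FamEuler.isLocallyConstant_fibreEuler f₁ F₁ hF₁ hfl₁) (ρ ⟨y, hyV⟩)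
  have key : ∀ z : V, PerfAux.eulerChar f F z.1 = FamEuler.fibreEuler f₁ F₁ (ρ z) := fun z =>
    finsum_congr fun j => by rw [betti_eq_fiberRank, hkey j z]
  refine ⟨Subtype.val '' (ρ ⁻¹' U), V.isOpen.isOpenMap_subtype_val _ (hU.preimage ρ.continuous),
    ⟨⟨y, hyV⟩, hyU, rfl⟩, ?_⟩
  rintro _ ⟨z, hz, rfl⟩
  show PerfAux.eulerChar f F z.1 = PerfAux.eulerChar f F (⟨y, hyV⟩ : V).1
  rw [key z, key ⟨y, hyV⟩, hc _ hz]

end Groth.Agent.PBC

end
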