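import Groth.Agent.PBC.Deg0

/-!
# Sections commute with base change when the degree zero comparison map is invertible
-/

set_option autoImplicit false
set_option linter.style.haveILetI false
set_option backward.isDefEq.respectTransparency false
set_option backward.isDefEq.respectTransparency.types false
set_option maxHeartbeats 1000000

universe u

open CategoryTheory CategoryTheory.Limits AlgebraicGeometry TopologicalSpace Opposite
open scoped TensorProduct

noncomputable section

namespace Groth.Agent.PBC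

open Groth.Agent Groth.Agent.QCoh

variable {A B : Type u} [CommRing A] [CommRing B] (φ : A →+* B) {X X' : Scheme.{u}}
  [X.Over (Spec (CommRingCat.of A))] [X'.Over (Spec (CommRingCat.of B))] (g : X' ⟶ X)
  (h : IsPullback g (X' ↘ Spec (CommRingCat.of B)) (X ↘ Spec (CommRingCat.of A))
    (Spec.map (CommRingCat.ofHom φ)))
  [QuasiCompact (X ↘ Spec (CommRingCat.of A))] [QuasiSeparated (X ↘ Spec (CommRingCat.of A))]
  {F : X.Modules} (hF : Coh.IsQCoh F)

include hF in
/-- sections commute with base change when the comparison map is invertible -/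
theorem bijective_sectionsBC_of_isIso
    (hiso : IsIso (CohBC.bc0 (X ↘ Spec (CommRingCat.of A)) (Spec.map (CommRingCat.ofHom φ))
      (X' ↘ Spec (CommRingCat.of B)) g h.w F)) :
    Function.Bijective (sectionsBC φ g h (F := F)) := by
  letI alg : Algebra A B := φ.toAlgebra
  let pA := X ↘ Spec (CommRingCat.of A)
  let pB := X' ↘ Spec (CommRingCat.of B)
  let σ := Spec.map (CommRingCat.ofHom φ)
  let F' := (Scheme.Modules.pullback g).obj F
  haveI : QuasiCompact pB := MorphismProperty.of_isPullback h inferInstance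
  haveI : QuasiSeparated pB := MorphismProperty.of_isPullback h inferInstance
  let β := CohBC.bc0 pA σ pB g h.w F
  let G := (Scheme.Modules.pushforward pA).obj F
  have hG : Coh.IsQCoh G := QCoh.isQCoh_pushforward pA hF
  have hN : Coh.IsQCoh ((Scheme.Modules.pullback σ).obj G) := QCoh.isQCoh_pullback σ hG
  have hQ : Coh.IsQCoh ((Scheme.Modules.pushforward pB).obj F') :=
    QCoh.isQCoh_pushforward pB (QCoh.isQCoh_pullback g hF)
  letI := secModule (Coh.toGlobal pA) F (⊤ : X.Opens)
  letI := secModule (Coh.toGlobal pB) F' (⊤ : X'.Opens)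
  letI := secModule ((Coh.toGlobal pB).comp (algebraMap A B)) F' (⊤ : X'.Opens)
  haveI : IsScalarTower A B Γ(F', (⊤ : X'.Opens)) := .of_algebraMap_smul fun _ _ => rfl
  let L := sectionsBC φ g h (F := F)
  have hle : (⊤ : (Spec (CommRingCat.of B)).Opens) ≤ σ ⁻¹ᵁ ⊤ := le_top
  letI aT : Algebra Γ(Spec (CommRingCat.of A), ⊤) Γ(Spec (CommRingCat.of B), ⊤) := (σ.appLE ⊤ ⊤ hle).hom.toAlgebra
  letI : Module Γ(Spec (CommRingCat.of A), ⊤) Γ((Scheme.Modules.pullback σ).obj G, ⊤) :=
    Module.compHom _ (σ.appLE ⊤ ⊤ hle).hom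
  haveI : IsScalarTower Γ(Spec (CommRingCat.of A), ⊤) Γ(Spec (CommRingCat.of B), ⊤)
      Γ((Scheme.Modules.pullback σ).obj G, ⊤) := .of_algebraMap_smul fun _ _ => rfl
  obtain ⟨l, hl, hb⟩ := ExistEasy.exists_pullSec_baseChange σ hG (isAffineOpen_top _) (isAffineOpen_top _) hle
  let Φ : Γ(F, (⊤ : X.Opens)) →+ Γ((Scheme.Modules.pullback σ).obj G, ⊤) :=
    AddMonoidHom.mk' (fun y => l (show Γ(G, ⊤) from y)) fun a b => map_add l _ _
  have hΦ : ∀ (a : A) y, Φ (a • y) = (Scheme.ΓSpecIso (CommRingCat.of B)).inv.hom (φ a) • Φ y := by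
    intro a y
    have h1 := l.map_smul ((Scheme.ΓSpecIso (CommRingCat.of A)).inv.hom a) (show Γ(G, ⊤) from y)
    have h2 : σ.appLE ⊤ ⊤ hle ((Scheme.ΓSpecIso (CommRingCat.of A)).inv.hom a) =
        (Scheme.ΓSpecIso (CommRingCat.of B)).inv.hom (φ a) := by
      rw [show σ.appLE ⊤ ⊤ hle = σ.appTop from (Scheme.Hom.app_eq_appLE σ).symm]
      exact (congr($(Scheme.ΓSpecIso_inv_naturality (CommRingCat.ofHom φ)) a)).symm
    refine Eq.trans ?_ (h1.trans (congrArg (· • l (show Γ(G, ⊤) from y)) h2))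
    refine congrArg l ?_
    exact (congrArg (· • (show Γ(F, (⊤ : X.Opens)) from y)) (QCoh.ringMap_id (U := (⊤ : X.Opens)) (homOfLE le_top)
      (Coh.toGlobal pA a))).trans rfl
  letI : Module B Γ((Scheme.Modules.pullback σ).obj G, ⊤) :=
    Module.compHom _ (Scheme.ΓSpecIso (CommRingCat.of B)).inv.hom
  letI : Module A Γ((Scheme.Modules.pullback σ).obj G, ⊤) :=
    Module.compHom _ ((Scheme.ΓSpecIso (CommRingCat.of B)).inv.hom.comp φ)
  haveI : IsScalarTower A B Γ((Scheme.Modules.pullback σ).obj G, ⊤) :=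
    .of_algebraMap_smul fun _ _ => rfl
  let Φl : Γ(F, (⊤ : X.Opens)) →ₗ[A] Γ((Scheme.Modules.pullback σ).obj G, ⊤) :=
    { toFun := Φ, map_add' := map_add Φ, map_smul' := hΦ }
  let Ψ := Φl.liftBaseChange B
  have hβΨ : ∀ t, (show Γ(F', (⊤ : X'.Opens)) from β.app ⊤ (Ψ t)) = L t := by
    intro t
    induction t using TensorProduct.induction_on with
    | zero => simp only [map_zero]
    | add a b ha hb => simp only [map_add]; rw [← ha, ← hb]
    | tmul c x =>
      have h1 : (show Γ(F', (⊤ : X'.Opens)) from β.app ⊤ (Φ x)) =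
          secMap g ((Scheme.Modules.pullbackPushforwardAdjunction g).unit.app F) (V := (⊤ : X.Opens))
            (W := (⊤ : X'.Opens)) le_top x :=
        (congrArg (β.app ⊤) (hl _)).trans (bc0_app_pullSec pA σ pB g h.w F hle x)
      show _ = LinearMap.liftBaseChange B _ (c ⊗ₜ[A] x)
      rw [show Ψ (c ⊗ₜ[A] x) = c • Φl x from LinearMap.liftBaseChange_tmul _ _ _ _, LinearMap.liftBaseChange_tmul]
      refine (Scheme.Modules.Hom.app_smul β _ _).trans ?_
      refine Eq.trans ?_ (congrArg (c • ·) h1)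
      exact ((congrArg (· • (show Γ(F', (⊤ : X'.Opens)) from β.app ⊤ (Φ x)))
        (QCoh.ringMap_id (U := (⊤ : X'.Opens)) (homOfLE le_top) (Coh.toGlobal pB c))).trans rfl).symm
  refine ⟨?_, (isIso_bc0_and_surjective_sectionsBC φ g h hF).2 inferInstance⟩
  have hinjΨ : Function.Injective Ψ := by
    let ιB := (Scheme.ΓSpecIso (CommRingCat.of B))
    let K : Γ(Spec (CommRingCat.of B), ⊤) ⊗[Γ(Spec (CommRingCat.of A), ⊤)] Γ(G, ⊤) →+
        B ⊗[A] Γ(F, (⊤ : X.Opens)) :=
      TensorProduct.liftAddHom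
        (AddMonoidHom.mk' (fun c => AddMonoidHom.mk' (fun m =>
            (ιB.hom c : B) ⊗ₜ[A] (show Γ(F, (⊤ : X.Opens)) from m))
          fun m m' => TensorProduct.tmul_add _ _ _)
          fun c c' => AddMonoidHom.ext fun m =>
            (congrArg (· ⊗ₜ[A] (show Γ(F, (⊤ : X.Opens)) from m)) (map_add ιB.hom.hom c c')).trans
              (TensorProduct.add_tmul _ _ _))
        fun r c m => by
          obtain ⟨a, rfl⟩ := (Scheme.ΓSpecIso (CommRingCat.of A)).commRingCatIsoToRingEquiv.symm.surjective r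
          show (ιB.hom (σ.appLE ⊤ ⊤ hle _ * c) : B) ⊗ₜ[A] _ = (ιB.hom c : B) ⊗ₜ[A] _
          have h2 : σ.appLE ⊤ ⊤ hle ((Scheme.ΓSpecIso (CommRingCat.of A)).inv.hom a) =
              ιB.inv.hom (φ a) := by
            rw [show σ.appLE ⊤ ⊤ hle = σ.appTop from (Scheme.Hom.app_eq_appLE σ).symm]
            exact (congr($(Scheme.ΓSpecIso_inv_naturality (CommRingCat.ofHom φ)) a)).symm
          refine (congrArg (· ⊗ₜ[A] (show Γ(F, (⊤ : X.Opens)) from m)) (show (ιB.hom _ : B) =
            a • (ιB.hom c : B) from ?_)).trans ((TensorProduct.smul_tmul a _ _).trans (congrArg _ ?_))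
          · refine (map_mul ιB.hom.hom _ c).trans (congrArg (· * _) ?_)
            exact (congrArg ιB.hom h2).trans (congr($(ιB.inv_hom_id) (φ a)))
          · refine Eq.symm ?_
            exact ((congrArg (· • (show Γ(F, (⊤ : X.Opens)) from m)) (QCoh.ringMap_id (U := (⊤ : X.Opens))
              (homOfLE le_top) (Coh.toGlobal pA a))).trans rfl).symm
    have hK : ∀ t, K (hb.equiv.symm (Ψ t)) = t := by
      intro t
      induction t using TensorProduct.induction_on with
      | zero => simp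
      | add a b ha hb' => simp only [map_add, ha, hb']
      | tmul c x =>
        have : hb.equiv.symm (Ψ (c ⊗ₜ[A] x)) = (ιB.inv.hom c) ⊗ₜ (show Γ(G, ⊤) from x) := by
          rw [LinearEquiv.symm_apply_eq, hb.equiv_tmul]
          exact LinearMap.liftBaseChange_tmul _ _ _ _
        rw [this]
        exact congrArg (· ⊗ₜ[A] x) (congr($(ιB.inv_hom_id) c))
    exact Function.LeftInverse.injective (g := fun z => K (hb.equiv.symm z)) hK
  have hinjβ : Function.Injective (β.app ⊤) := by
    haveI : IsIso β := hiso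
    exact (ConcreteCategory.bijective_of_isIso (β.app ⊤)).1
  exact fun a b hab => hinjΨ (hinjβ ((hβΨ a).trans (hab.trans (hβΨ b).symm)))

end Groth.Agent.PBC

end
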