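import Groth.Agent.PBC.Deg0
import Groth.Agent.CohBC.God
import Groth.Agent.KFlatLib.Scheme.AcyclicPush
import Groth.Agent.S2265

/-!
# Degree zero base change: from affine bases to arbitrary bases
-/

set_option autoImplicit false
set_option linter.style.haveILetI false
set_option backward.isDefEq.respectTransparency false
set_option backward.isDefEq.respectTransparency.types false
set_option maxHeartbeats 1000000
set_option synthInstance.maxHeartbeats 400000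

universe u

open CategoryTheory CategoryTheory.Limits AlgebraicGeometry TopologicalSpace Opposite
open scoped TensorProduct

noncomputable section

namespace Groth.Agent.PBC

open Groth.Agent Groth.Agent.QCoh

section Formal

variable {X S X' S' : Scheme.{u}} (f : X ⟶ S) (F : X.Modules)

/-- `bc0` of equal squares. -/
theorem bc0_congr {g g₁ : S' ⟶ S} (hg : g = g₁) {f' : X' ⟶ S'} {g' g₁' : X' ⟶ X} (hg' : g' = g₁')
    (w : g' ≫ f = f' ≫ g) (w₁ : g₁' ≫ f = f' ≫ g₁) :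
    (IsIso (CohBC.bc0 f g f' g' w F) ↔ IsIso (CohBC.bc0 f g₁ f' g₁' w₁ F)) ∧
      (Epi (CohBC.bc0 f g f' g' w F) ↔ Epi (CohBC.bc0 f g₁ f' g₁' w₁ F)) := by
  subst hg hg'
  exact ⟨Iff.rfl, Iff.rfl⟩

variable {Y U V : Scheme.{u}} (k : X' ⟶ Y) (g : Y ⟶ X) (ξ : X' ⟶ U) (η : Y ⟶ V) (φ : U ⟶ V) (ψ : V ⟶ S)
  (h₁ : k ≫ η = ξ ≫ φ) (h₂ : g ≫ f = η ≫ ψ) (hw : (k ≫ g) ≫ f = ξ ≫ (φ ≫ ψ))

/-- A composite square whose right square has invertible base change. -/
theorem bc0_paste_right (h : IsIso (CohBC.bc0 f ψ η g h₂ F)) :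
    (IsIso (CohBC.bc0 η φ ξ k h₁ ((Scheme.Modules.pullback g).obj F)) ↔
        IsIso (CohBC.bc0 f (φ ≫ ψ) ξ (k ≫ g) hw F)) ∧
      (Epi (CohBC.bc0 f (φ ≫ ψ) ξ (k ≫ g) hw F) →
        Epi (CohBC.bc0 η φ ξ k h₁ ((Scheme.Modules.pullback g).obj F))) := by
  have e := bc0_comp_horizontal k g ξ η f φ ψ h₁ h₂ hw F
  let c := (Scheme.Modules.pullbackComp φ ψ).app ((Scheme.Modules.pushforward f).obj F)
  let c' := (Scheme.Modules.pushforward ξ).mapIso ((Scheme.Modules.pullbackComp k g).app F)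
  let b := (Scheme.Modules.pullback φ).mapIso (@asIso _ _ _ _ (CohBC.bc0 f ψ η g h₂ F) h)
  have e' : c.hom ≫ CohBC.bc0 f (φ ≫ ψ) ξ (k ≫ g) hw F =
      b.hom ≫ CohBC.bc0 η φ ξ k h₁ ((Scheme.Modules.pullback g).obj F) ≫ c'.hom := e
  refine ⟨⟨fun hi => ?_, fun hi => ?_⟩, fun hi => ?_⟩
  · haveI : IsIso (c.hom ≫ CohBC.bc0 f (φ ≫ ψ) ξ (k ≫ g) hw F) := by rw [e']; infer_instance
    exact IsIso.of_isIso_comp_left c.hom _
  · haveI : IsIso (b.hom ≫ CohBC.bc0 η φ ξ k h₁ ((Scheme.Modules.pullback g).obj F) ≫ c'.hom) := by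
      rw [← e']; infer_instance
    haveI := IsIso.of_isIso_comp_left b.hom (CohBC.bc0 η φ ξ k h₁ ((Scheme.Modules.pullback g).obj F) ≫ c'.hom)
    exact IsIso.of_isIso_comp_right _ c'.hom
  · have e'' : CohBC.bc0 η φ ξ k h₁ ((Scheme.Modules.pullback g).obj F) =
        b.inv ≫ (c.hom ≫ CohBC.bc0 f (φ ≫ ψ) ξ (k ≫ g) hw F) ≫ c'.inv := by
      simp [e']
    rw [e'']
    infer_instance

/-- A composite square whose left square has invertible base change. -/
theorem bc0_paste_left (h : IsIso (CohBC.bc0 η φ ξ k h₁ ((Scheme.Modules.pullback g).obj F))) :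
    (IsIso (CohBC.bc0 f (φ ≫ ψ) ξ (k ≫ g) hw F) → IsIso ((Scheme.Modules.pullback φ).map (CohBC.bc0 f ψ η g h₂ F))) ∧
      (Epi (CohBC.bc0 f (φ ≫ ψ) ξ (k ≫ g) hw F) → Epi ((Scheme.Modules.pullback φ).map (CohBC.bc0 f ψ η g h₂ F))) := by
  have e := bc0_comp_horizontal k g ξ η f φ ψ h₁ h₂ hw F
  let c := (Scheme.Modules.pullbackComp φ ψ).app ((Scheme.Modules.pushforward f).obj F)
  let c' := (Scheme.Modules.pushforward ξ).mapIso ((Scheme.Modules.pullbackComp k g).app F)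
  let b := @asIso _ _ _ _ (CohBC.bc0 η φ ξ k h₁ ((Scheme.Modules.pullback g).obj F)) h
  have e' : c.hom ≫ CohBC.bc0 f (φ ≫ ψ) ξ (k ≫ g) hw F =
      (Scheme.Modules.pullback φ).map (CohBC.bc0 f ψ η g h₂ F) ≫ b.hom ≫ c'.hom := e
  have e'' : (Scheme.Modules.pullback φ).map (CohBC.bc0 f ψ η g h₂ F) =
      (c.hom ≫ CohBC.bc0 f (φ ≫ ψ) ξ (k ≫ g) hw F) ≫ c'.inv ≫ b.inv := by
    simp [e']
  rw [e'']
  exact ⟨fun hi => inferInstance, fun hi => inferInstance⟩

/-- Inverse image along an isomorphism reflects epimorphisms. -/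
theorem epi_of_pullback_map {U V : Scheme.{u}} (σ : U ⟶ V) [IsIso σ] {M N : V.Modules} (a : M ⟶ N)
    (h : Epi ((Scheme.Modules.pullback σ).map a)) : Epi a := by
  let t : Scheme.Modules.pullback σ ⋙ Scheme.Modules.pullback (inv σ) ≅ 𝟭 _ :=
    Scheme.Modules.pullbackComp (inv σ) σ ≪≫ Scheme.Modules.pullbackCongr (IsIso.inv_hom_id σ) ≪≫
      Scheme.Modules.pullbackId V
  haveI := (Scheme.Modules.pullbackPushforwardAdjunction (inv σ)).isLeftAdjoint
  haveI := h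
  have e : a = t.inv.app M ≫ (Scheme.Modules.pullback (inv σ)).map ((Scheme.Modules.pullback σ).map a) ≫
      t.hom.app N := by
    have hn := t.hom.naturality a
    rw [Functor.comp_map, Functor.id_map] at hn
    rw [hn, Iso.inv_hom_id_app_assoc]
  haveI : Epi ((Scheme.Modules.pullback (inv σ)).map ((Scheme.Modules.pullback σ).map a)) := inferInstance
  rw [e]
  infer_instance

end Formal

variable {X S : Scheme.{u}} (f : X ⟶ S) [IsProper f] [LocallyOfFinitePresentation f] {F : X.Modules}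

theorem proper_overSpec {V : S.Opens} (hV : IsAffineOpen V) :
    IsProper (overSpec f hV) ∧ LocallyOfFinitePresentation (overSpec f hV) :=
  ⟨MorphismProperty.of_isPullback (P := @IsProper) (isPullback_overSpec hV) inferInstance,
    MorphismProperty.of_isPullback (P := @LocallyOfFinitePresentation) (isPullback_overSpec hV) inferInstance⟩

theorem isFlatOver_overSpec (hfl : FlatMod.IsFlatOver f F) {V : S.Opens} (hV : IsAffineOpen V) :
    FlatMod.IsFlatOver (overSpec f hV) ((Scheme.Modules.pullback (f ⁻¹ᵁ V).ι).obj F) := fun x =>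
  (FibFlatMod.flatAt_openImmersion (f := f) (f' := overSpec f hV) (jX := (f ⁻¹ᵁ V).ι) (jY := hV.fromSpec)
    (overSpec_fromSpec f hV) F x).2 (hfl _)

/-- The residue field of the prime of a point is the residue field of the point. -/
theorem exists_residue_iso {V : S.Opens} (hV : IsAffineOpen V) {y : S} (hy : y ∈ V) :
    ∃ j : (hV.primeIdealOf ⟨y, hy⟩).asIdeal.ResidueField →+* S.residueField y,
      Function.Bijective j ∧ j.comp (algebraMap Γ(S, V) _) = evalV y hy := by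
  let 𝔭 := (hV.primeIdealOf ⟨y, hy⟩).asIdeal
  have hk : RingHom.ker (evalV y hy) = 𝔭 := ker_evalV hV hy
  letI : Algebra Γ(S, V) (S.residueField y) := (evalV y hy).toAlgebra
  have hf₂ : 𝔭.primeCompl ≤ (IsUnit.submonoid (S.residueField y)).comap (evalV y hy) := fun a ha => by
    have ha' : evalV y hy a ≠ 0 := fun h0 => ha (hk.le (RingHom.mem_ker.2 h0))
    exact isUnit_iff_ne_zero.2 ha'
  let j := Ideal.ResidueField.lift 𝔭 (evalV y hy) hk.ge hf₂
  refine ⟨j, ⟨RingHom.injective j, fun z => ?_⟩, RingHom.ext fun a =>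
    Ideal.ResidueField.lift_algebraMap _ _ _ hf₂ a⟩
  obtain ⟨w, rfl⟩ := Ideal.Quotient.mk_surjective z
  letI := stalkAlg (X := S) hy
  haveI := isLocalization_stalk' hV hy
  obtain ⟨a, b, rfl⟩ := IsLocalization.exists_mk'_eq 𝔭.primeCompl w
  refine ⟨algebraMap _ _ a * (algebraMap _ _ (b : Γ(S, V)))⁻¹, ?_⟩
  rw [map_mul, map_inv₀, Ideal.ResidueField.lift_algebraMap, Ideal.ResidueField.lift_algebraMap]
  have hb : evalV y hy (b : Γ(S, V)) ≠ 0 := fun h0 => b.2 (hk.le (RingHom.mem_ker.2 h0))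
  rw [mul_inv_eq_iff_eq_mul₀ hb]
  exact (congrArg (S.residue y) (IsLocalization.mk'_spec (S.presheaf.stalk y) a b).symm).trans (map_mul _ _ _)

/-- The fibre over a point as a fibre over the residue field of its prime. -/
theorem exists_fibre_square (hF : CohB1.IsFP F) {V : S.Opens} (hV : IsAffineOpen V) {s : S} (hsV : s ∈ V) :
    ∃ (g₀ : f.fiber s ⟶ (f ⁻¹ᵁ V : X.Opens))
      (p₀ : f.fiber s ⟶ Spec (CommRingCat.of (hV.primeIdealOf ⟨s, hsV⟩).asIdeal.ResidueField))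
      (h₀ : IsPullback g₀ p₀ (overSpec f hV)
        (Spec.map (CommRingCat.ofHom (algebraMap Γ(S, V) (hV.primeIdealOf ⟨s, hsV⟩).asIdeal.ResidueField)))),
      g₀ ≫ (f ⁻¹ᵁ V).ι = f.fiberι s ∧
      (Epi (CohBC.bc0 f (S.fromSpecResidueField s) (f.fiberToSpecResidueField s) (f.fiberι s) (f.fiber_fac s) F) →
        Epi (CohBC.bc0 (overSpec f hV)
          (Spec.map (CommRingCat.ofHom (algebraMap Γ(S, V) (hV.primeIdealOf ⟨s, hsV⟩).asIdeal.ResidueField)))
          p₀ g₀ h₀.w ((Scheme.Modules.pullback (f ⁻¹ᵁ V).ι).obj F))) := by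
  let 𝔭 := (hV.primeIdealOf ⟨s, hsV⟩).asIdeal
  obtain ⟨j, hj, hjc⟩ := exists_residue_iso hV hsV
  let σ : Spec (S.residueField s) ⟶ Spec (CommRingCat.of 𝔭.ResidueField) := Spec.map (CommRingCat.ofHom j)
  haveI : IsIso (CommRingCat.ofHom j) := (ConcreteCategory.isIso_iff_bijective _).2 hj
  haveI : IsIso σ := inferInstanceAs (IsIso (Spec.map (CommRingCat.ofHom j)))
  let a := Spec.map (CommRingCat.ofHom (algebraMap Γ(S, V) 𝔭.ResidueField))
  let p₀ : f.fiber s ⟶ Spec (CommRingCat.of 𝔭.ResidueField) := f.fiberToSpecResidueField s ≫ σ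
  have hφ : σ ≫ a ≫ hV.fromSpec = S.fromSpecResidueField s := by
    rw [← Category.assoc, ← Spec.map_comp, ← CommRingCat.ofHom_comp, hjc]
    show Spec.map (S.presheaf.germ V s hsV ≫ S.residue s) ≫ _ = _
    rw [Spec.map_comp, Category.assoc, Scheme.fromSpecResidueField]
    exact congrArg (Spec.map (S.residue s) ≫ ·) (hV.fromSpecStalk_eq_fromSpecStalk hsV)
  have hfib : IsPullback (f.fiberι s) (f.fiberToSpecResidueField s) f (S.fromSpecResidueField s) :=
    IsPullback.of_hasPullback _ _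
  have hA : IsPullback (f.fiberι s) p₀ f (a ≫ hV.fromSpec) :=
    hfib.of_iso (Iso.refl _) (Iso.refl _) (asIso σ) (Iso.refl _) (by simp) (by simp [p₀]) (by simp)
      (by simp [hφ])
  have hid : IsPullback (𝟙 (f.fiber s)) (f.fiberToSpecResidueField s) p₀ σ :=
    IsPullback.of_horiz_isIso ⟨by simp [p₀]⟩
  have hpb := isPullback_overSpec (f := f) hV
  let g₀ : f.fiber s ⟶ (f ⁻¹ᵁ V : X.Opens) := hpb.lift (f.fiberι s) (p₀ ≫ a) (by rw [Category.assoc]; exact hA.w)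
  have hg₀ : g₀ ≫ (f ⁻¹ᵁ V).ι = f.fiberι s := hpb.lift_fst _ _ _
  have h₀ : IsPullback g₀ p₀ (overSpec f hV) a :=
    IsPullback.of_right (by rw [hg₀]; exact hA) (hpb.lift_snd _ _ _) hpb
  haveI : IsProper p₀ := inferInstanceAs (IsProper (pullback.snd f (S.fromSpecResidueField s) ≫ σ))
  have hq := QCoh.isQCoh_of_isFP hF
  refine ⟨g₀, p₀, h₀, hg₀, fun hs => ?_⟩
  have hepiA : Epi (CohBC.bc0 f (a ≫ hV.fromSpec) p₀ (f.fiberι s) hA.w F) := by
    refine epi_of_pullback_map σ _ ((bc0_paste_left f F (𝟙 _) (f.fiberι s) (f.fiberToSpecResidueField s) p₀ σ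
      (a ≫ hV.fromSpec) hid.w hA.w ((hid.paste_horiz hA).w)
      (CohBC.isIso_bc0 p₀ σ (𝟙 _) _ hid (QCoh.isQCoh_pullback _ hq))).2 ?_)
    exact (bc0_congr f F hφ.symm (Category.id_comp _).symm _ _).2.1 hs
  exact (bc0_paste_right f F g₀ (f ⁻¹ᵁ V).ι p₀ (overSpec f hV) a hV.fromSpec h₀.w hpb.w ((h₀.paste_horiz hpb).w)
      (CohBC.isIso_bc0 f hV.fromSpec _ _ hpb hq)).2
      ((bc0_congr f F rfl hg₀.symm _ _).2.1 hepiA)

/-- Around a point with vanishing first fibre cohomology or epimorphic fibre base change there is a good factor. -/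
theorem exists_good_nhd (hF : CohB1.IsFP F) (hfl : FlatMod.IsFlatOver f F) (s : S)
    (hs : Epi (CohBC.bc0 f (S.fromSpecResidueField s) (f.fiberToSpecResidueField s) (f.fiberι s) (f.fiber_fac s) F) ∨
      Subsingleton (CohIII.fiberH f F s 1)) :
    ∃ (V : S.Opens) (hV : IsAffineOpen V) (r : Γ(S, V)), s ∈ S.basicOpen r ∧
      IsGood0 (overSpec f hV) ((Scheme.Modules.pullback (f ⁻¹ᵁ V).ι).obj F) r := by
  obtain ⟨_, ⟨V, hV, rfl⟩, hsV, -⟩ :=
    S.isBasis_affineOpens.exists_subset_of_mem_open (Set.mem_univ s) isOpen_univ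
  have hV' : IsAffineOpen V := hV
  letI : ((f ⁻¹ᵁ V : X.Opens) : Scheme.{u}).Over (Spec (CommRingCat.of Γ(S, V))) := ⟨overSpec f hV'⟩
  haveI : IsProper (((f ⁻¹ᵁ V : X.Opens) : Scheme.{u}) ↘ Spec (CommRingCat.of Γ(S, V))) := (proper_overSpec f hV').1
  haveI : LocallyOfFinitePresentation (((f ⁻¹ᵁ V : X.Opens) : Scheme.{u}) ↘ Spec (CommRingCat.of Γ(S, V))) :=
    (proper_overSpec f hV').2
  obtain ⟨g₀, p₀, h₀, hg₀, hepi⟩ := exists_fibre_square f hF hV' hsV
  obtain ⟨r, hr, hgood⟩ : ∃ r, r ∉ (hV'.primeIdealOf ⟨s, hsV⟩).asIdeal ∧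
      IsGood0 (overSpec f hV') ((Scheme.Modules.pullback (f ⁻¹ᵁ V).ι).obj F) r := by
    rcases hs with hs | hs
    · exact exists_isGood0 (ModStLib.isFP_pullback (f ⁻¹ᵁ V).ι hF) (isFlatOver_overSpec f hfl hV') _
        (f.fiber s) g₀ p₀ h₀ (hepi hs)
    · refine exists_isGood0_of_subsingleton (ModStLib.isFP_pullback (f ⁻¹ᵁ V).ι hF) (isFlatOver_overSpec f hfl hV') _
        (f.fiber s) g₀ p₀ h₀ ?_
      let e : (Scheme.Modules.pullback g₀).obj ((Scheme.Modules.pullback (f ⁻¹ᵁ V).ι).obj F) ≅ CohIII.fiberMod f F s :=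
        (Scheme.Modules.pullbackComp g₀ _).app F ≪≫ (Scheme.Modules.pullbackCongr hg₀).app F
      haveI := hs
      exact (HHcongr (Coh.toGlobal (A := S.residueField s) (f.fiberToSpecResidueField s)) e 1).toEquiv.subsingleton
  exact ⟨V, hV', r, (mem_basicOpen_iff_notMem hV' hsV r).2 hr, hgood⟩

/-- Base change is invertible over a good open. -/
theorem isIso_bc0_of_good (hF : CohB1.IsFP F) {V : S.Opens} (hV : IsAffineOpen V) {r : Γ(S, V)}
    (hgood : IsGood0 (overSpec f hV) ((Scheme.Modules.pullback (f ⁻¹ᵁ V).ι).obj F) r)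
    {X' T : Scheme.{u}} (g' : X' ⟶ X) (f' : X' ⟶ T) (g : T ⟶ S) (h : IsPullback g' f' f g)
    {W : T.Opens} (hW : IsAffineOpen W) (hWr : W ≤ g ⁻¹ᵁ S.basicOpen r) :
    IsIso ((Scheme.Modules.restrictFunctor W.ι).map (CohBC.bc0 f g f' g' h.w F)) := by
  have hq := QCoh.isQCoh_of_isFP hF
  have hle : W ≤ g ⁻¹ᵁ V := hWr.trans (g.preimage_mono (S.basicOpen_le r))
  haveI : IsProper f' := MorphismProperty.of_isPullback h inferInstance
  let φ : Γ(S, V) →+* Γ(T, W) := (g.appLE V W hle).hom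
  let a := Spec.map (CommRingCat.ofHom φ)
  let j := hW.fromSpec
  have hag : a ≫ hV.fromSpec = j ≫ g := IsAffineOpen.SpecMap_appLE_fromSpec g hV hW hle
  have hT := isPullback_overSpec (f := f') hW
  have hA : IsPullback ((f' ⁻¹ᵁ W).ι ≫ g') (overSpec f' hW) f (a ≫ hV.fromSpec) := by
    rw [hag]; exact hT.paste_horiz h
  have hpb := isPullback_overSpec (f := f) hV
  let g₀ : (f' ⁻¹ᵁ W : Scheme.{u}) ⟶ (f ⁻¹ᵁ V : X.Opens) :=
    hpb.lift ((f' ⁻¹ᵁ W).ι ≫ g') (overSpec f' hW ≫ a) (by rw [Category.assoc]; exact hA.w)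
  have hg₀ : g₀ ≫ (f ⁻¹ᵁ V).ι = (f' ⁻¹ᵁ W).ι ≫ g' := hpb.lift_fst _ _ _
  have h₀ : IsPullback g₀ (overSpec f' hW) (overSpec f hV) a :=
    IsPullback.of_right (by rw [hg₀]; exact hA) (hpb.lift_snd _ _ _) hpb
  have hunit : IsUnit (φ r) := by
    have e : g.appLE V W hle = S.presheaf.map (homOfLE (S.basicOpen_le r)).op ≫ g.appLE (S.basicOpen r) W hWr :=
      (g.map_appLE hWr (homOfLE (S.basicOpen_le r)).op).symm
    show IsUnit ((g.appLE V W hle).hom r)
    rw [e]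
    exact (RingedSpace.isUnit_res_basicOpen S.toRingedSpace r).map (g.appLE (S.basicOpen r) W hWr).hom
  have h1 := hgood.1 Γ(T, W) φ (f' ⁻¹ᵁ W : Scheme.{u}) g₀ (overSpec f' hW) h₀ hunit
  have h2 : IsIso (CohBC.bc0 f (j ≫ g) (overSpec f' hW) ((f' ⁻¹ᵁ W).ι ≫ g') (hT.paste_horiz h).w F) :=
    (bc0_congr f F hag hg₀ _ _).1.1 ((bc0_paste_right f F g₀ (f ⁻¹ᵁ V).ι (overSpec f' hW) (overSpec f hV) a
      hV.fromSpec h₀.w hpb.w ((h₀.paste_horiz hpb).w) (CohBC.isIso_bc0 f hV.fromSpec _ _ hpb hq)).1.1 h1)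
  have h3 : IsIso ((Scheme.Modules.pullback j).map (CohBC.bc0 f g f' g' h.w F)) :=
    (bc0_paste_left f F (f' ⁻¹ᵁ W).ι g' (overSpec f' hW) f' j g hT.w h.w (hT.paste_horiz h).w
      (CohBC.isIso_bc0 f' j _ _ hT (QCoh.isQCoh_pullback g' hq))).1 h2
  haveI := (NatIso.isIso_map_iff (Scheme.Modules.restrictFunctorIsoPullback j) _).2 h3
  haveI : IsAffine (W : Scheme.{u}) := hW
  exact (NatIso.isIso_map_iff ((Scheme.Modules.restrictFunctorCongr hW.isoSpec_hom_fromSpec.symm) ≪≫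
    Scheme.Modules.restrictFunctorComp hW.isoSpec.hom j) _).2
      (inferInstanceAs (IsIso ((Scheme.Modules.restrictFunctor hW.isoSpec.hom).map
        ((Scheme.Modules.restrictFunctor j).map (CohBC.bc0 f g f' g' h.w F)))))

/-- The direct image is locally free on a good open. -/
theorem isFinLocFree_of_good (hF : CohB1.IsFP F) {V : S.Opens} (hV : IsAffineOpen V) {r : Γ(S, V)}
    (hgood : IsGood0 (overSpec f hV) ((Scheme.Modules.pullback (f ⁻¹ᵁ V).ι).obj F) r) :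
    ∀ y ∈ S.basicOpen r, ∃ (O : S.Opens) (n : ℕ), y ∈ O ∧
      Nonempty (((Scheme.Modules.pushforward f).obj F).restrict O.ι ≅ FlatMod.freeMod (O : Scheme.{u}) n) := by
  have hq := QCoh.isQCoh_of_isFP hF
  haveI := (proper_overSpec f hV).1
  let π := overSpec f hV
  let FA := (Scheme.Modules.pullback (f ⁻¹ᵁ V).ι).obj F
  let G : (Spec (CommRingCat.of Γ(S, V))).Modules := (Scheme.Modules.pushforward π).obj FA
  have hG : Coh.IsQCoh G := QCoh.isQCoh_pushforward π (QCoh.isQCoh_pullback _ hq)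
  letI := secModule (Coh.toGlobal π) FA (⊤ : (f ⁻¹ᵁ V : Scheme.{u}).Opens)
  obtain ⟨N, _, _, _, _, a, b, hab⟩ := hgood.2
  let M := moduleSpecΓFunctor.obj G
  have hsm : ∀ (c : Γ(S, V)) (x : M), (show Γ(FA, (⊤ : (f ⁻¹ᵁ V : Scheme.{u}).Opens)) from c • x) =
      c • (show Γ(FA, (⊤ : (f ⁻¹ᵁ V : Scheme.{u}).Opens)) from x) := fun c x =>
    (congrArg (· • (show Γ(FA, (⊤ : (f ⁻¹ᵁ V : Scheme.{u}).Opens)) from x))
      (QCoh.ringMap_id (U := (⊤ : (f ⁻¹ᵁ V : Scheme.{u}).Opens)) (homOfLE le_top) (Coh.toGlobal π c))).symm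
  let a' : M →ₗ[Γ(S, V)] N :=
    { toFun := fun x => a (show Γ(FA, (⊤ : (f ⁻¹ᵁ V : Scheme.{u}).Opens)) from x)
      map_add' := fun x y => map_add a _ _
      map_smul' := fun c x => (congrArg a (hsm c x)).trans (map_smul a c _) }
  let b' : N →ₗ[Γ(S, V)] M :=
    { toFun := fun x => (show M from b x)
      map_add' := fun x y => map_add b x y
      map_smul' := fun c x => (map_smul b c x).trans (hsm c (show M from b x)).symm }
  have hab' : ∀ x : M, b' (a' x) = r • x := fun x => (DFunLike.congr_fun hab _).trans (hsm r x).symm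
  let B := Localization.Away r
  let c : B ⊗[Γ(S, V)] M →ₗ[B] B ⊗[Γ(S, V)] N := a'.baseChange B
  let u : B := (IsLocalization.Away.algebraMap_isUnit (S := B) r).unit⁻¹.val
  let d : B ⊗[Γ(S, V)] N →ₗ[B] B ⊗[Γ(S, V)] M := u • b'.baseChange B
  have hdc : d ∘ₗ c = LinearMap.id := by
    refine TensorProduct.AlgebraTensorModule.ext fun z x => ?_
    show u • b'.baseChange B (a'.baseChange B (z ⊗ₜ x)) = z ⊗ₜ[Γ(S, V)] x
    rw [LinearMap.baseChange_tmul, LinearMap.baseChange_tmul, hab', TensorProduct.tmul_smul,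
      ← algebraMap_smul B r, smul_smul, IsUnit.val_inv_mul, one_smul]
  have hlf : FlatMod.IsFinLocFree ((Scheme.Modules.pullback
      (Spec.map (CommRingCat.ofHom (algebraMap Γ(S, V) B)))).obj G) := by
    obtain ⟨e⟩ := S2265.result Γ(S, V) B M
    haveI := (isQuasicoherent_iff_isIso_fromTildeΓ G).1 hG
    refine H23.PullPush.isFinLocFree_of_iso
      (e.symm ≪≫ (Scheme.Modules.pullback _).mapIso (asIso G.fromTildeΓ)) ?_
    exact (isFinLocFree_tilde_iff _).2 ⟨Module.Finite.of_surjective d fun z => ⟨c z, DFunLike.congr_fun hdc z⟩,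
      Module.Projective.of_split c d hdc⟩
  haveI : IsIso (CohBC.bc0 f hV.fromSpec π (f ⁻¹ᵁ V).ι (isPullback_overSpec hV).w F) :=
    CohBC.isIso_bc0 f hV.fromSpec _ _ (isPullback_overSpec hV) hq
  let σ := Spec.map (CommRingCat.ofHom (algebraMap Γ(S, V) B))
  haveI : IsOpenImmersion σ := IsOpenImmersion.of_isLocalization r
  let k := σ ≫ hV.fromSpec
  let GS := (Scheme.Modules.pushforward f).obj F
  let eG : GS.restrict k ≅ (Scheme.Modules.pullback σ).obj G :=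
    (Scheme.Modules.restrictFunctorIsoPullback k).app GS ≪≫
      ((Scheme.Modules.pullbackComp σ hV.fromSpec).app GS).symm ≪≫
      (Scheme.Modules.pullback σ).mapIso (asIso (CohBC.bc0 f hV.fromSpec π (f ⁻¹ᵁ V).ι (isPullback_overSpec hV).w F))
  intro y hy
  obtain ⟨z, hz⟩ : y ∈ Set.range k.base := by
    have hr : Set.range σ.base = (PrimeSpectrum.basicOpen r : Set (PrimeSpectrum Γ(S, V))) :=
      PrimeSpectrum.localization_away_comap_range B r
    rw [Scheme.Hom.comp_base, TopCat.coe_comp, Set.range_comp, hr]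
    have h3 := hV.fromSpec_image_basicOpen r
    exact ((Set.ext_iff.1 (congrArg (fun O : S.Opens => (O : Set S)) h3)) y).2 hy
  obtain ⟨O, n, hzO, ⟨i⟩⟩ := hlf z
  refine ⟨k ''ᵁ O, n, ⟨z, hzO, hz⟩, ⟨?_⟩⟩
  let u' := (k.isoImage O).inv ≫ O.ι
  have hu : u' ≫ k = (k ''ᵁ O).ι := by simp [u']
  exact (Scheme.Modules.restrictFunctorCongr hu).symm.app GS ≪≫ (restrictRestrict GS u' k).symm ≪≫
    (Scheme.Modules.restrictFunctor u').mapIso eG ≪≫
    (restrictRestrict _ (k.isoImage O).inv O.ι).symm ≪≫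
    (Scheme.Modules.restrictFunctor (k.isoImage O).inv).mapIso i ≪≫ freeModRestrict _ n

/-- Degree zero cohomology and base change near a point with epimorphic fibre base change map. -/
theorem exists_nhd_bc0 (hF : CohB1.IsFP F) (hfl : FlatMod.IsFlatOver f F) (s : S)
    (hs : Epi (CohBC.bc0 f (S.fromSpecResidueField s) (f.fiberToSpecResidueField s) (f.fiberι s) (f.fiber_fac s) F) ∨
      Subsingleton (CohIII.fiberH f F s 1)) :
    ∃ U : S.Opens, s ∈ U ∧ FlatMod.IsFinLocFree (((Scheme.Modules.pushforward f).obj F).restrict U.ι) ∧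
      ∀ (T X' : Scheme.{u}) (g : T ⟶ S) (f' : X' ⟶ T) (g' : X' ⟶ X) (h : IsPullback g' f' f g),
        (∀ t, g.base t ∈ U) → IsIso (CohBC.bc0 f g f' g' h.w F) := by
  obtain ⟨V, hV, r, hs', hgood⟩ := exists_good_nhd f hF hfl s hs
  refine ⟨S.basicOpen r, hs', fun z => ?_, fun T X' g f' g' h hg => ?_⟩
  · obtain ⟨O, n, hzO, ⟨i⟩⟩ := isFinLocFree_of_good f hF hV hgood z.1 z.2
    exact ⟨(S.basicOpen r).ι ⁻¹ᵁ O, n, hzO, ⟨restrictRestrict _ _ _ ≪≫
      (Scheme.Modules.restrictFunctorCongr (morphismRestrict_ι (S.basicOpen r).ι O).symm).app _ ≪≫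
      (restrictRestrict _ _ O.ι).symm ≪≫ (Scheme.Modules.restrictFunctor _).mapIso i ≪≫ freeModRestrict _ n⟩⟩
  · refine KFlatLib.isIso_of_isIso_restrict _ fun t => ?_
    obtain ⟨_, ⟨W, hW, rfl⟩, htW, hWr⟩ := T.isBasis_affineOpens.exists_subset_of_mem_open
      (show t ∈ g ⁻¹ᵁ S.basicOpen r from hg t) (g ⁻¹ᵁ S.basicOpen r).2
    exact ⟨W, htW, isIso_bc0_of_good f hF hV hgood g' f' g h hW hWr⟩

/-- Degree zero base change over an open all whose points satisfy one of the criteria. -/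
theorem isFinLocFree_and_isIso_bc0 (hF : CohB1.IsFP F) (hfl : FlatMod.IsFlatOver f F) (U : S.Opens)
    (hs : ∀ s ∈ U, Epi (CohBC.bc0 f (S.fromSpecResidueField s) (f.fiberToSpecResidueField s) (f.fiberι s)
      (f.fiber_fac s) F) ∨ Subsingleton (CohIII.fiberH f F s 1)) :
    FlatMod.IsFinLocFree (((Scheme.Modules.pushforward f).obj F).restrict U.ι) ∧
      ∀ (T X' : Scheme.{u}) (g : T ⟶ S) (f' : X' ⟶ T) (g' : X' ⟶ X) (h : IsPullback g' f' f g),
        (∀ t, g.base t ∈ U) → IsIso (CohBC.bc0 f g f' g' h.w F) := by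
  refine ⟨fun z => ?_, fun T X' g f' g' h hg => KFlatLib.isIso_of_isIso_restrict _ fun t => ?_⟩
  · obtain ⟨V, hV, r, hy, hgood⟩ := exists_good_nhd f hF hfl z.1 (hs _ z.2)
    obtain ⟨O, n, hzO, ⟨i⟩⟩ := isFinLocFree_of_good f hF hV hgood z.1 hy
    exact ⟨U.ι ⁻¹ᵁ O, n, hzO, ⟨restrictRestrict _ _ _ ≪≫
      (Scheme.Modules.restrictFunctorCongr (morphismRestrict_ι U.ι O).symm).app _ ≪≫
      (restrictRestrict _ _ O.ι).symm ≪≫ (Scheme.Modules.restrictFunctor _).mapIso i ≪≫ freeModRestrict _ n⟩⟩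
  · obtain ⟨V, hV, r, hy, hgood⟩ := exists_good_nhd f hF hfl (g.base t) (hs _ (hg t))
    obtain ⟨_, ⟨W, hW, rfl⟩, htW, hWr⟩ := T.isBasis_affineOpens.exists_subset_of_mem_open
      (show t ∈ g ⁻¹ᵁ S.basicOpen r from hy) (g ⁻¹ᵁ S.basicOpen r).2
    exact ⟨W, htW, isIso_bc0_of_good f hF hV hgood g' f' g h hW hWr⟩

end Groth.Agent.PBC
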