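import Mathlib

/-!
# Complexes of finite free modules exact at all points are split exact
-/

set_option autoImplicit false
set_option linter.style.haveILetI false

universe u

open TensorProduct

namespace Groth.Agent.PBC

variable {R : Type u} [CommRing R] {M N L : Type u} [AddCommGroup M] [Module R M] [AddCommGroup N] [Module R N]
  [AddCommGroup L] [Module R L] (d : M →ₗ[R] N) (e : N →ₗ[R] L)

theorem exists_homotopy_field {k : Type u} [Field k] {A B C : Type u} [AddCommGroup A] [Module k A]
    [AddCommGroup B] [Module k B] [AddCommGroup C] [Module k C] (d : A →ₗ[k] B) (e : B →ₗ[k] C)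
    (h : Function.Exact d e) : ∃ (a : B →ₗ[k] A) (b : C →ₗ[k] B), d ∘ₗ a + b ∘ₗ e = LinearMap.id := by
  obtain ⟨s, hs⟩ := LinearMap.exists_rightInverse_of_surjective e.rangeRestrict e.range_rangeRestrict
  obtain ⟨b, hb⟩ := LinearMap.exists_extend s
  have hker : ∀ x, (LinearMap.id - b ∘ₗ e : B →ₗ[k] B) x ∈ LinearMap.range d := fun x => by
    refine LinearMap.mem_range.2 ((h _).1 ?_)
    have h1 : b (e x) = s (e.rangeRestrict x) := DFunLike.congr_fun hb (e.rangeRestrict x)
    have h2 : e (s (e.rangeRestrict x)) = e x :=
      congrArg Subtype.val (DFunLike.congr_fun hs (e.rangeRestrict x))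
    simp only [LinearMap.sub_apply, LinearMap.id_coe, id_eq, LinearMap.coe_comp, Function.comp_apply,
      map_sub, h1, h2, sub_self]
  obtain ⟨t, ht⟩ := LinearMap.exists_rightInverse_of_surjective d.rangeRestrict d.range_rangeRestrict
  refine ⟨t ∘ₗ LinearMap.codRestrict _ _ hker, b, LinearMap.ext fun x => ?_⟩
  have h3 := congrArg Subtype.val (DFunLike.congr_fun ht (LinearMap.codRestrict _ _ hker x))
  show d (t (LinearMap.codRestrict _ _ hker x)) + b (e x) = x
  refine (congrArg (· + b (e x)) (show d (t (LinearMap.codRestrict _ _ hker x)) = x - b (e x) from h3)).trans ?_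
  exact sub_add_cancel x (b (e x))

variable [Module.Free R M] [Module.Finite R M] [Module.Free R N] [Module.Finite R N] [Module.Free R L]
  [Module.Finite R L] (p : Ideal R) [p.IsPrime]

/-- Linear maps over the residue field, up to a denominator, come from linear maps. -/
theorem exists_lift_residue (g : p.ResidueField ⊗[R] N →ₗ[p.ResidueField] p.ResidueField ⊗[R] M) :
    ∃ (s : R) (h : N →ₗ[R] M), s ∉ p ∧ h.baseChange p.ResidueField = algebraMap R p.ResidueField s • g := by
  classical
  let k := p.ResidueField
  let bN := Module.Free.chooseBasis R N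
  let bM := Module.Free.chooseBasis R M
  let G := LinearMap.toMatrix (bN.baseChange k) (bM.baseChange k) g
  obtain ⟨c, hc⟩ := IsLocalization.exist_integer_multiples (nonZeroDivisors (R ⧸ p))
    (Finset.univ (α := Module.Free.ChooseBasisIndex R M × Module.Free.ChooseBasisIndex R N))
    (fun ij => (G ij.1 ij.2 : k))
  choose H hH using fun i j => hc (i, j) (Finset.mem_univ _)
  obtain ⟨s, hs⟩ := Ideal.Quotient.mk_surjective (I := p) (c : R ⧸ p)
  choose H' hH' using fun i j => Ideal.Quotient.mk_surjective (I := p) (H i j)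
  refine ⟨s, Matrix.toLin bN bM (Matrix.of H'), fun hsp => ?_, ?_⟩
  · exact nonZeroDivisors.ne_zero c.2 (hs.symm.trans (Ideal.Quotient.eq_zero_iff_mem.2 hsp))
  · apply (LinearMap.toMatrix (bN.baseChange k) (bM.baseChange k)).injective
    rw [map_smul]
    ext i j
    rw [Matrix.smul_apply, LinearMap.toMatrix_apply, LinearMap.toMatrix_apply]
    simp only [Module.Basis.baseChange_apply, LinearMap.baseChange_tmul, Matrix.toLin_self, tmul_sum, tmul_smul,
      Matrix.of_apply, map_sum, Finsupp.coe_finsetSum, Finset.sum_apply]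
    rw [Finset.sum_eq_single i]
    rotate_left
    · intro l _ hl
      rw [← algebraMap_smul k (H' l j), map_smul, ← Module.Basis.baseChange_apply, Module.Basis.repr_self]
      simp [Ne.symm hl]
    · simp
    rw [← algebraMap_smul k (H' i j), map_smul, ← Module.Basis.baseChange_apply, Module.Basis.repr_self]
    simp only [Finsupp.smul_apply, Finsupp.single_eq_same, smul_eq_mul, mul_one]
    rw [show (1 : k) ⊗ₜ[R] bN j = bN.baseChange k j from (Module.Basis.baseChange_apply _ _ _).symm,
      ← LinearMap.toMatrix_apply (bN.baseChange k) (bM.baseChange k) g i j]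
    show algebraMap R k (H' i j) = algebraMap R k s * G i j
    rw [IsScalarTower.algebraMap_apply R (R ⧸ p) k, IsScalarTower.algebraMap_apply R (R ⧸ p) k s]
    show algebraMap (R ⧸ p) k (Ideal.Quotient.mk p (H' i j)) =
      algebraMap (R ⧸ p) k (Ideal.Quotient.mk p s) * G i j
    rw [hH', hs, hH i j]
    exact Algebra.smul_def (c : R ⧸ p) (G i j)

open Polynomial in
/-- Near each prime the identity is homotopic to zero up to a factor. -/
theorem exists_local_homotopy (hde : e ∘ₗ d = 0)
    (h : Function.Exact (d.baseChange p.ResidueField) (e.baseChange p.ResidueField)) :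
    ∃ (r : R), r ∉ p ∧ (∀ x, e x = 0 → r • x ∈ LinearMap.range d) ∧
      ∃ H : L →ₗ[R] N, e ∘ₗ H ∘ₗ e = r • e := by
  let k := p.ResidueField
  obtain ⟨a, b, hab⟩ := exists_homotopy_field _ _ h
  obtain ⟨s, a₀, hs, ha⟩ := exists_lift_residue (M := M) p a
  obtain ⟨t, b₀, ht, hb⟩ := exists_lift_residue (N := L) (M := N) p b
  let u : Module.End R N := t • (d ∘ₗ a₀) + s • (b₀ ∘ₗ e)
  have hu : u.baseChange k = algebraMap R k (t * s) • LinearMap.id := by
    have h1 : u.baseChange k = algebraMap R k t • (d.baseChange k ∘ₗ a₀.baseChange k) +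
        algebraMap R k s • (b₀.baseChange k ∘ₗ e.baseChange k) := by
      simp only [u, LinearMap.baseChange_add, LinearMap.baseChange_smul, LinearMap.baseChange_comp,
        algebraMap_smul]
    rw [h1, ha, hb, LinearMap.comp_smul, LinearMap.smul_comp, smul_smul, smul_smul, ← map_mul, ← map_mul,
      mul_comm s t, ← smul_add, hab]
  let r := LinearMap.det u
  have hr : r ∉ p := by
    intro hmem
    have h1 := LinearMap.det_baseChange (A := k) u
    rw [hu, LinearMap.det_smul, LinearMap.det_id, mul_one,
      show algebraMap R k (LinearMap.det u) = 0 from Ideal.algebraMap_residueField_eq_zero.2 hmem] at h1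
    have hne : algebraMap R k (t * s) ≠ 0 := fun h0 =>
      (Ideal.IsPrime.mul_notMem ‹p.IsPrime› ht hs) (Ideal.algebraMap_residueField_eq_zero.1 h0)
    exact pow_ne_zero _ hne h1
  refine ⟨(LinearMap.charpoly u).coeff 0, fun hmem => hr ?_, ?_⟩
  · show LinearMap.det u ∈ p
    rw [LinearMap.det_eq_sign_charpoly_coeff]
    exact Ideal.mul_mem_left _ _ hmem
  let q : R[X] := (LinearMap.charpoly u).divX
  have hq : (LinearMap.charpoly u).coeff 0 • (1 : Module.End R N) = - (aeval u q * u) := by
    have h1 := LinearMap.aeval_self_charpoly u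
    rw [← Polynomial.divX_mul_X_add (LinearMap.charpoly u), map_add, map_mul, aeval_X, aeval_C,
      Algebra.algebraMap_eq_smul_one] at h1
    rw [eq_neg_iff_add_eq_zero, add_comm]
    exact h1
  have hed : ∀ y, e (d y) = 0 := fun y => DFunLike.congr_fun hde y
  have hrange : ∀ (q' : R[X]) (y : N), y ∈ LinearMap.range d → aeval u q' y ∈ LinearMap.range d := by
    intro q'
    induction q' using Polynomial.induction_on' with
    | add f g hf hg => intro y hy; rw [map_add]; exact add_mem (hf y hy) (hg y hy)
    | monomial n a =>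
      rw [aeval_monomial]
      induction n with
      | zero => intro y hy; simpa [Module.algebraMap_end_apply] using Submodule.smul_mem _ a hy
      | succ n ih =>
        intro y hy
        rw [pow_succ, ← mul_assoc]
        refine ih (u y) ?_
        obtain ⟨z, rfl⟩ := hy
        show t • d (a₀ (d z)) + s • b₀ (e (d z)) ∈ _
        rw [hed, map_zero, smul_zero, add_zero]
        exact Submodule.smul_mem _ t ⟨_, rfl⟩
  refine ⟨fun x hx => ?_, ?_⟩
  · have hux : u x ∈ LinearMap.range d := by
      show t • d (a₀ x) + s • b₀ (e x) ∈ _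
      rw [hx, map_zero, smul_zero, add_zero]
      exact Submodule.smul_mem _ t ⟨_, rfl⟩
    have h2 := DFunLike.congr_fun hq x
    rw [show (LinearMap.charpoly u).coeff 0 • x = -(aeval u q (u x)) from h2]
    exact neg_mem (hrange q _ hux)
  · have heu : e ∘ₗ u = (s • (e ∘ₗ b₀)) ∘ₗ e := by
      ext x
      show e (t • d (a₀ x) + s • b₀ (e x)) = s • e (b₀ (e x))
      rw [map_add, map_smul, map_smul, hed, smul_zero, zero_add]
    have hcomm : ∀ (q' : R[X]) (y : N), e (aeval u q' y) = aeval (s • (e ∘ₗ b₀) : Module.End R L) q' (e y) := by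
      intro q'
      induction q' using Polynomial.induction_on' with
      | add f g hf hg => intro y; simp [hf, hg]
      | monomial n a =>
        rw [aeval_monomial, aeval_monomial]
        intro y
        simp only [Module.End.mul_apply, Module.algebraMap_end_apply, map_smul]
        congr 1
        induction n generalizing y with
        | zero => rfl
        | succ n ih =>
          rw [pow_succ, pow_succ, Module.End.mul_apply, Module.End.mul_apply, ih]
          exact congrArg _ (DFunLike.congr_fun heu y)
    refine ⟨- (s • b₀) ∘ₗ aeval (s • (e ∘ₗ b₀) : Module.End R L) q, ?_⟩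
    ext x
    have h3 := congrArg e (DFunLike.congr_fun hq x)
    have hu' : ∀ y, e (u y) = s • e (b₀ (e y)) := fun y => DFunLike.congr_fun heu y
    have hc' := hcomm q
    have hswap : ∀ y, aeval u q (u y) = u (aeval u q y) := fun y =>
      DFunLike.congr_fun ((Algebra.commute_of_mem_adjoin_singleton_of_commute (Polynomial.aeval_mem_adjoin_singleton R u) (Commute.refl u)).symm : aeval u q * u = u * aeval u q) y
    simp only [LinearMap.smul_apply, Module.End.one_apply, LinearMap.neg_apply, Module.End.mul_apply,
      map_smul, map_neg] at h3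
    rw [hswap, hu', hc'] at h3
    simp only [LinearMap.comp_apply, LinearMap.neg_apply, LinearMap.smul_apply, map_neg, map_smul]
    exact h3.symm

variable {p}

/-- A complex of finite free modules exact at every point is exact. -/
theorem exact_of_points (hde : e ∘ₗ d = 0)
    (h : ∀ (p : Ideal R) [p.IsPrime], Function.Exact (d.baseChange p.ResidueField) (e.baseChange p.ResidueField)) :
    Function.Exact d e := fun x => ⟨fun hx => by
    let I : Ideal R := (LinearMap.range d).comap (LinearMap.toSpanSingleton R N x)
    suffices I = ⊤ by simpa [I] using this.ge (Submodule.mem_top (x := (1 : R)))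
    by_contra hI
    obtain ⟨m, hm, hle⟩ := Ideal.exists_le_maximal I hI
    haveI := hm.isPrime
    obtain ⟨r, hr, hr', -⟩ := exists_local_homotopy d e m hde (h m)
    exact hr (hle (by simpa [I] using hr' x hx)), fun ⟨y, hy⟩ => hy ▸ DFunLike.congr_fun hde y⟩

/-- The second map has a quasi-inverse. -/
theorem exists_inner_inverse (hde : e ∘ₗ d = 0)
    (h : ∀ (p : Ideal R) [p.IsPrime], Function.Exact (d.baseChange p.ResidueField) (e.baseChange p.ResidueField)) :
    ∃ H : L →ₗ[R] N, e ∘ₗ H ∘ₗ e = e := by
  let Φ : (L →ₗ[R] N) →ₗ[R] (N →ₗ[R] L) :=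
    { toFun := fun H => e ∘ₗ H ∘ₗ e
      map_add' := fun a b => by ext; simp
      map_smul' := fun a b => by ext; simp }
  let I : Ideal R := (LinearMap.range Φ).comap (LinearMap.toSpanSingleton R _ e)
  suffices I = ⊤ by simpa [I, Φ] using this.ge (Submodule.mem_top (x := (1 : R)))
  by_contra hI
  obtain ⟨m, hm, hle⟩ := Ideal.exists_le_maximal I hI
  haveI := hm.isPrime
  obtain ⟨r, hr, -, H, hH⟩ := exists_local_homotopy d e m hde (h m)
  exact hr (hle (show LinearMap.toSpanSingleton R (N →ₗ[R] L) e r ∈ LinearMap.range Φ from ⟨H, hH⟩))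

/-- The kernels and the cokernel at an exact spot are projective. -/
theorem projective_of_points (hde : e ∘ₗ d = 0)
    (h : ∀ (p : Ideal R) [p.IsPrime], Function.Exact (d.baseChange p.ResidueField) (e.baseChange p.ResidueField)) :
    Module.Projective R (LinearMap.ker d) ∧ Module.Finite R (LinearMap.ker d) ∧
      Module.Projective R (L ⧸ LinearMap.range e) := by
  obtain ⟨H, hH⟩ := exists_inner_inverse d e hde h
  have hex := exact_of_points d e hde h
  have hH' : ∀ x, e (H (e x)) = e x := fun x => DFunLike.congr_fun hH x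
  have hC : Module.Projective R (L ⧸ LinearMap.range e) := by
    refine Module.Projective.of_split (Submodule.liftQ _ (LinearMap.id - e ∘ₗ H) ?_)
      (LinearMap.range e).mkQ (Submodule.linearMap_qext _ (LinearMap.ext fun x => ?_))
    · rintro _ ⟨x, rfl⟩
      show e x - e (H (e x)) = 0
      rw [hH', sub_self]
    · show Submodule.Quotient.mk (x - e (H x)) = Submodule.Quotient.mk x
      rw [Submodule.Quotient.eq, sub_sub_cancel_left]
      exact neg_mem ⟨_, rfl⟩
  let P := LinearMap.ker e
  let π : N →ₗ[R] P := LinearMap.codRestrict P (LinearMap.id - H ∘ₗ e) fun x => by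
    show e (x - H (e x)) = 0
    rw [map_sub, hH', sub_self]
  have hπ : π ∘ₗ P.subtype = LinearMap.id := LinearMap.ext fun x => Subtype.ext (by
    show (x : N) - H (e x) = x
    rw [show e (x : N) = 0 from x.2, map_zero, sub_zero])
  haveI : Module.Projective R P := Module.Projective.of_split _ _ hπ
  let d' : M →ₗ[R] P := LinearMap.codRestrict P d fun y => DFunLike.congr_fun hde y
  have hd' : Function.Surjective d' := fun x => by
    obtain ⟨y, hy⟩ := (hex x.1).1 x.2
    exact ⟨y, Subtype.ext hy⟩
  obtain ⟨σ, hσ⟩ := Module.projective_lifting_property d' LinearMap.id hd'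
  have hker : LinearMap.ker d' = LinearMap.ker d := LinearMap.ker_codRestrict ..
  let ρ : M →ₗ[R] LinearMap.ker d := LinearMap.codRestrict _ (LinearMap.id - σ ∘ₗ d') fun x => by
    rw [← hker]
    show d' (x - σ (d' x)) = 0
    rw [map_sub, show d' (σ (d' x)) = d' x from DFunLike.congr_fun hσ (d' x), sub_self]
  have hρ : ρ ∘ₗ (LinearMap.ker d).subtype = LinearMap.id := LinearMap.ext fun x => Subtype.ext (by
    show (x : M) - σ (d' x) = x
    rw [show d' (x : M) = 0 from Subtype.ext x.2, map_zero, sub_zero])
  exact ⟨Module.Projective.of_split _ _ hρ, Module.Finite.of_surjective ρ fun x =>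
    ⟨x, DFunLike.congr_fun hρ x⟩, hC⟩

end Groth.Agent.PBC
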