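import Groth.Agent.PBC.LocalModel
import Groth.Agent.PBC.SplitExact
import Groth.Agent.KFlatLib.Scheme.AffineConservative
import Groth.Agent.ConsPropLib.FibreLocFree

/-!
# Vanishing of fibre cohomology and higher direct images over any base
-/

set_option autoImplicit false
set_option linter.style.haveILetI false
set_option backward.isDefEq.respectTransparency false
set_option backward.isDefEq.respectTransparency.types false
set_option maxHeartbeats 1000000

universe u

open CategoryTheory CategoryTheory.Limits AlgebraicGeometry TopologicalSpace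
open scoped TensorProduct

noncomputable section

namespace Groth.Agent.PBC

open Groth.Agent Groth.Agent.QCoh

section Algebra

variable {R : Type u} [CommRing R] {M N L : Type u} [AddCommGroup M] [Module R M] [AddCommGroup N] [Module R N]
  [AddCommGroup L] [Module R L]

/-- The middle homology between two spots with split conditions is finite projective. -/
theorem projective_middle (d : M →ₗ[R] N) (e : N →ₗ[R] L) [Module.Finite R N] [Module.Projective R N]
    (hde : e ∘ₗ d = 0) (hC : Module.Projective R (N ⧸ LinearMap.range d))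
    (hK : ∃ ρ : N →ₗ[R] LinearMap.ker e, ρ ∘ₗ (LinearMap.ker e).subtype = LinearMap.id) :
    Module.Projective R (LinearMap.ker e ⧸ (LinearMap.range d).submoduleOf (LinearMap.ker e)) ∧
      Module.Finite R (LinearMap.ker e ⧸ (LinearMap.range d).submoduleOf (LinearMap.ker e)) := by
  obtain ⟨ρ, hρ⟩ := hK
  have hρ' : ∀ x : LinearMap.ker e, ρ x = x := fun x => DFunLike.congr_fun hρ x
  let B := (LinearMap.range d).submoduleOf (LinearMap.ker e)
  let r : (N ⧸ LinearMap.range d) →ₗ[R] (LinearMap.ker e ⧸ B) :=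
    (LinearMap.range d).liftQ (B.mkQ ∘ₗ ρ) (by
      rintro _ ⟨m, rfl⟩
      have hm : d m ∈ LinearMap.ker e := DFunLike.congr_fun hde m
      show B.mkQ (ρ ((⟨d m, hm⟩ : LinearMap.ker e) : N)) = 0
      rw [hρ', Submodule.mkQ_apply, Submodule.Quotient.mk_eq_zero]
      exact ⟨m, rfl⟩)
  let i : (LinearMap.ker e ⧸ B) →ₗ[R] (N ⧸ LinearMap.range d) :=
    B.mapQ _ (LinearMap.ker e).subtype fun x hx => hx
  have hri : r ∘ₗ i = LinearMap.id := Submodule.linearMap_qext _ (LinearMap.ext fun x => by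
    show B.mkQ (ρ x) = B.mkQ x
    rw [hρ'])
  exact ⟨Module.Projective.of_split i r hri, Module.Finite.of_surjective r fun x => ⟨i x, DFunLike.congr_fun hri x⟩⟩

/-- A kernel with a complement at a spot exact at all points. -/
theorem exists_retraction_ker (d : M →ₗ[R] N) (e : N →ₗ[R] L)
    [Module.Free R M] [Module.Finite R M] [Module.Free R N] [Module.Finite R N] [Module.Free R L]
    [Module.Finite R L] (hde : e ∘ₗ d = 0)
    (h : ∀ (p : Ideal R) [p.IsPrime], Function.Exact (d.baseChange p.ResidueField) (e.baseChange p.ResidueField)) :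
    ∃ ρ : M →ₗ[R] LinearMap.ker d, ρ ∘ₗ (LinearMap.ker d).subtype = LinearMap.id := by
  obtain ⟨H, hH⟩ := exists_inner_inverse d e hde h
  have hex := exact_of_points d e hde h
  let π : N →ₗ[R] N := LinearMap.id - H ∘ₗ e
  have hπ : ∀ x, π x ∈ LinearMap.range d := fun x => (hex _).1 (by
    show e (x - H (e x)) = 0
    rw [map_sub, show e (H (e x)) = e x from DFunLike.congr_fun hH x, sub_self])
  obtain ⟨σ, hσ⟩ := Module.projective_lifting_property d.rangeRestrict (LinearMap.codRestrict _ π hπ)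
    (LinearMap.surjective_rangeRestrict d)
  refine ⟨LinearMap.codRestrict _ (LinearMap.id - σ ∘ₗ d) fun x => ?_, LinearMap.ext fun x => Subtype.ext ?_⟩
  · have h1 : d (σ (d x)) = π (d x) := congrArg Subtype.val (DFunLike.congr_fun hσ (d x))
    show d (x - σ (d x)) = 0
    rw [map_sub, h1]
    show d x - (d x - H (e (d x))) = 0
    rw [show e (d x) = 0 from DFunLike.congr_fun hde x, map_zero, sub_zero, sub_self]
  · show (x : M) - σ (d x) = x
    rw [show d (x : M) = 0 from x.2, map_zero, sub_zero]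

end Algebra

section Chain

variable {R : Type u} [CommRing R] {P : ChainComplex (ModuleCat.{u} R) ℤ}

/-- The complex is exact in degree `q` at every point. -/
def ExactPts (P : ChainComplex (ModuleCat.{u} R) ℤ) (q : ℤ) : Prop :=
  ∀ (x : PrimeSpectrum R), CohIII.dRank P q x = 0

theorem function_exact_of_exactAt (P : ChainComplex (ModuleCat.{u} R) ℤ) {B : Type u} [CommRing B]
    (alg : Algebra R B) (φ : R →+* B) (hφ : φ = algebraMap R B) {a q b : ℤ} (ha : q + 1 = a) (hb : b + 1 = q)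
    (hex : (CohIII.bcCx φ P).ExactAt q) :
    Function.Exact ((P.d a q).hom.baseChange B) ((P.d q b).hom.baseChange B) := by
  obtain rfl : alg = φ.toAlgebra := Algebra.algebra_ext _ _ fun r => by rw [hφ]; rfl
  let K := CohIII.bcCx φ P
  rw [HomologicalComplex.exactAt_iff' _ a q b (by simp [ha]) (by simp; omega),
    ShortComplex.moduleCat_exact_iff] at hex
  change ∀ y : K.X q, K.d q b y = 0 → ∃ x : K.X a, K.d a q x = y at hex
  have h2 : ∀ x : K.X a, K.d q b (K.d a q x) = 0 := fun x => by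
    rw [← ConcreteCategory.comp_apply, K.d_comp_d]; rfl
  show ∀ y : K.X q, (K.d q b y = 0 ↔ y ∈ Set.range fun x : K.X a => K.d a q x)
  exact fun y => ⟨fun hy => hex y hy, fun ⟨x, hx⟩ => hx ▸ h2 x⟩

theorem exact_baseChange_of_dRank (hfin : ∀ i, Module.Finite R (P.X i)) {a q b : ℤ} (ha : q + 1 = a)
    (hb : b + 1 = q) (h : ExactPts P q) (p : Ideal R) [hp : p.IsPrime] :
    Function.Exact ((P.d a q).hom.baseChange p.ResidueField) ((P.d q b).hom.baseChange p.ResidueField) := by
  let φ : R →+* p.ResidueField := algebraMap R p.ResidueField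
  let K := CohIII.bcCx φ P
  haveI := finite_homology_bc φ P hfin q
  haveI : Subsingleton (K.homology q) := Module.finrank_zero_iff.1 (h ⟨p, hp⟩)
  have hex : K.ExactAt q := (HomologicalComplex.exactAt_iff_isZero_homology _ _).2
    (ModuleCat.isZero_of_subsingleton _)
  exact function_exact_of_exactAt P inferInstance φ rfl ha hb hex

theorem d_comp_hom (a q b : ℤ) : (P.d q b).hom ∘ₗ (P.d a q).hom = 0 := by
  rw [← ModuleCat.hom_comp, P.d_comp_d]; rfl

/-- Homology as kernel modulo image. -/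
theorem nonempty_homology_equiv {a q b : ℤ} (ha : q + 1 = a) (hb : b + 1 = q) :
    Nonempty (P.homology q ≃ₗ[R] (LinearMap.ker (P.d q b).hom ⧸
      (LinearMap.range (P.d a q).hom).submoduleOf (LinearMap.ker (P.d q b).hom))) := by
  let e₁ : P.homology q ≅ (P.sc' a q b).homology := P.homologyIsoSc' a q b (by simp [ha]) (by simp; omega)
  let T := P.sc' a q b
  refine ⟨e₁.toLinearEquiv.trans (T.moduleCatHomologyIso.toLinearEquiv.trans (Submodule.quotEquivOfEq _ _ ?_))⟩
  ext x
  constructor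
  · rintro ⟨y, rfl⟩; exact ⟨y, rfl⟩
  · rintro ⟨y, hy⟩; exact ⟨y, Subtype.ext hy⟩

variable (hfin : ∀ i, Module.Finite R (P.X i)) (hfree : ∀ i, Module.Free R (P.X i))

include hfin hfree in
theorem subsingleton_homology {q : ℤ} (h : ExactPts P q) : Subsingleton (P.homology q) := by
  obtain ⟨l⟩ := nonempty_homology_equiv (P := P) (a := q + 1) (q := q) (b := q - 1) rfl (by omega)
  haveI := hfin; haveI := hfree
  have hex := exact_of_points (P.d (q + 1) q).hom (P.d q (q - 1)).hom (d_comp_hom _ _ _)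
    fun p _ => exact_baseChange_of_dRank hfin rfl (by omega) h p
  haveI : Subsingleton (LinearMap.ker (P.d q (q - 1)).hom ⧸
      (LinearMap.range (P.d (q + 1) q).hom).submoduleOf (LinearMap.ker (P.d q (q - 1)).hom)) :=
    Submodule.Quotient.subsingleton_iff.2 (eq_top_iff.2 fun x _ => (hex x.1).1 x.2)
  exact l.toEquiv.subsingleton

include hfin hfree in
theorem projective_homology {q : ℤ} (h₁ : ExactPts P (q + 1)) (h₂ : ExactPts P (q - 1)) :
    Module.Projective R (P.homology q) ∧ Module.Finite R (P.homology q) := by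
  obtain ⟨l⟩ := nonempty_homology_equiv (P := P) (a := q + 1) (q := q) (b := q - 1) rfl (by omega)
  haveI := hfin; haveI := hfree
  have hC := (projective_of_points (P.d (q + 1 + 1) (q + 1)).hom (P.d (q + 1) q).hom (d_comp_hom _ _ _)
    fun p _ => exact_baseChange_of_dRank hfin rfl rfl h₁ p).2.2
  have hK := exists_retraction_ker (P.d q (q - 1)).hom (P.d (q - 1) (q - 1 - 1)).hom (d_comp_hom _ _ _)
    fun p _ => exact_baseChange_of_dRank hfin (by omega) (by omega) h₂ p
  obtain ⟨hp, hf⟩ := projective_middle (P.d (q + 1) q).hom (P.d q (q - 1)).hom (d_comp_hom _ _ _) hC hK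
  exact ⟨Module.Projective.of_equiv l.symm, Module.Finite.equiv l.symm⟩

end Chain

section Geometry

variable {X S : Scheme.{u}} {f : X ⟶ S} [HasInjectiveResolutions X.Modules] {F : X.Modules} {V : S.Opens}
  {hV : IsAffineOpen V} {P : ChainComplex (ModuleCat.{u} Γ(S, V)) ℤ}

theorem exactPts_of_fiberH (hP : IsLocalModel f F hV P) (p : ℕ)
    (h : ∀ y ∈ V, Subsingleton (CohIII.fiberH f F y p)) : ExactPts P (-(p : ℤ)) := fun x => by
  obtain ⟨z, hz, rfl⟩ := exists_point_fromSpec hV x
  haveI := h z hz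
  rw [← (hP.2.2.2.2.2 p z hz).1]
  exact Module.finrank_zero_of_subsingleton

theorem exactPts_of_pos (hP : IsLocalModel f F hV P) {q : ℤ} (hq : 0 < q) : ExactPts P q := fun x => by
  obtain ⟨e⟩ := nonempty_bcT_iso P (algebraMap Γ(S, V) x.asIdeal.ResidueField) q
  let K := CohIII.bcCx (algebraMap Γ(S, V) x.asIdeal.ResidueField) P
  haveI : Subsingleton ((CohIII.TFun K q).obj (ModuleCat.of _ x.asIdeal.ResidueField)) :=
    AddCommGrpCat.subsingleton_of_isZero ((Functor.map_isZero (forget₂ (ModuleCat.{u} Γ(S, V)) AddCommGrpCat.{u})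
      (hP.2.2.2.1 q hq ((ModuleCat.restrictScalars (algebraMap Γ(S, V) x.asIdeal.ResidueField)).obj
        (ModuleCat.of _ x.asIdeal.ResidueField)))).of_iso (e.app _))
  haveI h0 : Subsingleton ((CohIII.tensorObj K (ModuleCat.of _ x.asIdeal.ResidueField)).homology q) :=
    ‹Subsingleton ((CohIII.TFun K q).obj (ModuleCat.of _ x.asIdeal.ResidueField))›
  haveI : Subsingleton (K.homology q) :=
    @Equiv.subsingleton _ _ (((HomologicalComplex.homologyFunctor _ _ q).mapIso (tensorSelfIso (P := K))).toLinearEquiv).symm.toEquiv h0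
  exact Module.finrank_zero_of_subsingleton

variable (f F) in
theorem isZero_restrict_of_fiberH [IsProper f] [LocallyOfFinitePresentation f] (hF : CohB1.IsFP F)
    (hfl : FlatMod.IsFlatOver f F) (p : ℕ) (U : S.Opens) (h : ∀ y ∈ U, Subsingleton (CohIII.fiberH f F y p)) :
    IsZero (((Coh.Rpush f p).obj F).restrict U.ι) := by
  refine KFlatLib.isZero_of_sections (QCoh.isQCoh_restrict _ (QCoh.isQCoh_Rpush f (QCoh.isQCoh_of_isFP hF) p)) fun x => ?_
  obtain ⟨_, ⟨W, hW, rfl⟩, hxW, hWU⟩ :=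
    S.isBasis_affineOpens.exists_subset_of_mem_open x.2 U.2
  have hW' : IsAffineOpen W := hW
  obtain ⟨P, hP⟩ := exists_isLocalModel f F hW' hF hfl
  obtain ⟨l⟩ := hP.2.2.2.2.1 p
  haveI := subsingleton_homology hP.1 hP.2.1 (exactPts_of_fiberH hP p fun y hy => h y (hWU hy))
  haveI : Subsingleton Γ((Coh.Rpush f p).obj F, W) := l.toEquiv.subsingleton
  refine ⟨U.ι ⁻¹ᵁ W, hxW, hW'.preimage_of_isOpenImmersion U.ι (by rw [Scheme.Opens.opensRange_ι]; exact hWU), ?_⟩
  show Subsingleton Γ((Coh.Rpush f p).obj F, U.ι ''ᵁ (U.ι ⁻¹ᵁ W))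
  rw [Scheme.Hom.image_preimage_eq_opensRange_inf, Scheme.Opens.opensRange_ι, inf_eq_right.2 (show W ≤ U from hWU)]
  infer_instance

theorem exists_free_of_projective {G : S.Modules} (hG : Coh.IsQCoh G) {W : S.Opens} (hW : IsAffineOpen W)
    [Module.Finite Γ(S, W) Γ(G, W)] [Module.Projective Γ(S, W) Γ(G, W)] {y : S} (hy : y ∈ W) :
    ∃ (O : S.Opens) (n : ℕ), y ∈ O ∧ O ≤ W ∧ Nonempty (G.restrict O.ι ≅ FlatMod.freeMod (O : Scheme.{u}) n) := by
  let x := hW.primeIdealOf ⟨y, hy⟩
  let A := Localization.AtPrime x.asIdeal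
  haveI : Module.FinitePresentation Γ(S, W) Γ(G, W) := Module.finitePresentation_of_projective _ _
  haveI : IsLocalizedModule x.asIdeal.primeCompl (TensorProduct.mk Γ(S, W) A Γ(G, W) 1) :=
    (isLocalizedModule_iff_isBaseChange x.asIdeal.primeCompl A _).2
      (TensorProduct.isBaseChange Γ(S, W) Γ(G, W) A)
  haveI : Module.Free A (A ⊗[Γ(S, W)] Γ(G, W)) := Module.free_of_flat_of_isLocalRing
  obtain ⟨r, hr, hfree, -⟩ := Module.FinitePresentation.exists_free_localizedModule_powers
    x.asIdeal.primeCompl (TensorProduct.mk Γ(S, W) A Γ(G, W) 1) A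
  obtain ⟨n, hn⟩ := exists_free_nhd hG hW r hfree
  exact ⟨_, n, (mem_basicOpen_iff_notMem hW hy r).2 hr, S.basicOpen_le r, hn⟩

theorem isFinLocFree_restrict_of_projective {G : S.Modules} (hG : Coh.IsQCoh G) (U : S.Opens)
    (h : ∀ y ∈ U, ∃ (W : S.Opens), y ∈ W ∧ IsAffineOpen W ∧ W ≤ U ∧
      Module.Finite Γ(S, W) Γ(G, W) ∧ Module.Projective Γ(S, W) Γ(G, W)) :
    FlatMod.IsFinLocFree (G.restrict U.ι) := fun z => by
  obtain ⟨W, hzW, hW, -, h1, h2⟩ := h z.1 z.2
  obtain ⟨O, n, hzO, -, ⟨i⟩⟩ := exists_free_of_projective hG hW hzW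
  exact ⟨U.ι ⁻¹ᵁ O, n, hzO, ⟨restrictRestrict G _ U.ι ≪≫
    (Scheme.Modules.restrictFunctorCongr (morphismRestrict_ι U.ι O).symm).app G ≪≫
    (restrictRestrict G _ O.ι).symm ≪≫ (Scheme.Modules.restrictFunctor _).mapIso i ≪≫ freeModRestrict _ n⟩⟩

variable (f F) in
/-- `R^p f_*F` is locally free where the fibre cohomology next to degree `p` vanishes. -/
theorem isFinLocFree_restrict_of_fiberH [IsProper f] [LocallyOfFinitePresentation f] (hF : CohB1.IsFP F)
    (hfl : FlatMod.IsFlatOver f F) (p : ℕ) (U : S.Opens)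
    (hup : ∀ y ∈ U, Subsingleton (CohIII.fiberH f F y (p + 1)))
    (hdown : ∀ y ∈ U, ∀ j : ℕ, j + 1 = p → Subsingleton (CohIII.fiberH f F y j)) :
    FlatMod.IsFinLocFree (((Coh.Rpush f p).obj F).restrict U.ι) := by
  refine isFinLocFree_restrict_of_projective (QCoh.isQCoh_Rpush f (QCoh.isQCoh_of_isFP hF) p) U fun y hy => ?_
  obtain ⟨_, ⟨W, hW, rfl⟩, hyW, hWU⟩ := S.isBasis_affineOpens.exists_subset_of_mem_open hy U.2
  have hW' : IsAffineOpen W := hW
  obtain ⟨P, hP⟩ := exists_isLocalModel f F hW' hF hfl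
  obtain ⟨l⟩ := hP.2.2.2.2.1 p
  have h₁ : ExactPts P (-(p : ℤ) + 1) := by
    rcases p with _ | j
    · exact exactPts_of_pos hP (by omega)
    · rw [show -((j + 1 : ℕ) : ℤ) + 1 = -(j : ℤ) by omega]
      exact exactPts_of_fiberH hP j fun z hz => hdown z (hWU hz) j rfl
  have h₂ : ExactPts P (-(p : ℤ) - 1) := by
    rw [show -(p : ℤ) - 1 = -((p + 1 : ℕ) : ℤ) by omega]
    exact exactPts_of_fiberH hP (p + 1) fun z hz => hup z (hWU hz)
  obtain ⟨hp, hf⟩ := projective_homology hP.1 hP.2.1 h₁ h₂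
  exact ⟨W, hyW, hW', hWU, Module.Finite.equiv l.symm, Module.Projective.of_equiv l.symm⟩

variable (f F) in
/-- The open locus of vanishing fibre cohomology. -/
theorem exists_opens_fiberH [IsProper f] [LocallyOfFinitePresentation f] (hF : CohB1.IsFP F)
    (hfl : FlatMod.IsFlatOver f F) (p : ℕ) :
    ∃ U : S.Opens, ∀ s, s ∈ U ↔ Subsingleton (CohIII.fiberH f F s p) := by
  refine ⟨⟨_, isOpen_fiberRank_lt f F hF hfl p 1⟩, fun s => ?_⟩
  obtain ⟨_, ⟨W, hW, rfl⟩, hsW, -⟩ := S.isBasis_affineOpens.exists_subset_of_mem_open (Set.mem_univ s) isOpen_univ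
  have hW' : IsAffineOpen W := hW
  obtain ⟨P, hP⟩ := exists_isLocalModel f F hW' hF hfl
  haveI := (hP.2.2.2.2.2 p s hsW).2
  show Module.finrank _ (CohIII.fiberH f F s p) < 1 ↔ _
  rw [Nat.lt_one_iff, Module.finrank_zero_iff]

end Geometry

end Groth.Agent.PBC
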