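import Groth.Agent.PBC.Deg0Glob
import Groth.Agent.PBC.Vanish

/-!
# Global forms
-/

set_option autoImplicit false
set_option linter.style.haveILetI false
set_option backward.isDefEq.respectTransparency false
set_option backward.isDefEq.respectTransparency.types false

universe u

open CategoryTheory CategoryTheory.Limits AlgebraicGeometry TopologicalSpace

noncomputable section

namespace Groth.Agent.PBC

open Groth.Agent

theorem isFinLocFree_of_restrict_top {S : Scheme.{u}} {G : S.Modules}
    (h : FlatMod.IsFinLocFree (G.restrict (⊤ : S.Opens).ι)) : FlatMod.IsFinLocFree G :=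
  ConsPropLib.isFinLocFree_of_cover (fun _ : PUnit.{1} => (⊤ : S.Opens).ι) (fun x => ⟨PUnit.unit, ⟨⟨x, trivial⟩, rfl⟩⟩)
    fun _ => h

end Groth.Agent.PBC
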