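import Groth.Agent.ExistEasy.PP.PullSec
import Groth.Agent.CohBC.Main
import Groth.Prelude.Def_CohBC2

/-!
# Degree zero base change maps on sections; composition of squares
-/

set_option autoImplicit false
set_option linter.style.haveILetI false
set_option backward.isDefEq.respectTransparency false
set_option backward.isDefEq.respectTransparency.types false

universe u

open CategoryTheory AlgebraicGeometry AlgebraicGeometry.Scheme.Modules TopologicalSpace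

noncomputable section

namespace Groth.Agent.PBC

open Groth.Agent Groth.Agent.QCoh

/-- Morphisms out of an inverse image agree if they agree on pulled back sections. -/
theorem pullback_hom_ext {X Y : Scheme.{u}} (φ : X ⟶ Y) {P : Y.Modules} {Q : X.Modules}
    {a b : (pullback φ).obj P ⟶ Q}
    (h : ∀ (O : Y.Opens) (x : Γ(P, O)), a.app (φ ⁻¹ᵁ O) (pullSec φ P le_rfl x) =
      b.app (φ ⁻¹ᵁ O) (pullSec φ P le_rfl x)) : a = b := by
  refine ((pullbackPushforwardAdjunction φ).homEquiv _ _).injective (Scheme.Modules.hom_ext _ _ fun O => ?_)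
  ext x
  have e : pullSec φ P (le_refl (φ ⁻¹ᵁ O)) x = ((pullbackPushforwardAdjunction φ).unit.app P).app O x :=
    QCoh.map_id' _ _
  have h' := h O x
  rw [e] at h'
  rw [Adjunction.homEquiv_unit, Adjunction.homEquiv_unit]
  exact h'

variable {X S X' S' : Scheme.{u}} (f : X ⟶ S) (g : S' ⟶ S) (f' : X' ⟶ S') (g' : X' ⟶ X)

theorem le_square (w : g' ≫ f = f' ≫ g) {O : S.Opens} {W : S'.Opens} (hle : W ≤ g ⁻¹ᵁ O) :
    f' ⁻¹ᵁ W ≤ g' ⁻¹ᵁ (f ⁻¹ᵁ O) :=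
  (f'.preimage_mono hle).trans (by rw [← Scheme.Hom.comp_preimage, ← Scheme.Hom.comp_preimage, w])

/-- The base change map on pulled back sections. -/
theorem secMap_bc0Adj (w : g' ≫ f = f' ≫ g) (F : X.Modules) {O : S.Opens} {W : S'.Opens} (hle : W ≤ g ⁻¹ᵁ O)
    (x : Γ(F, f ⁻¹ᵁ O)) :
    (show Γ((pullback g').obj F, f' ⁻¹ᵁ W) from secMap g (CohBC.bc0Adj f g f' g' w F) hle
      (show Γ((pushforward f).obj F, O) from x)) = pullSec g' F (le_square f g f' g' w hle) x := by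
  let y : Γ((pullback g').obj F, g' ⁻¹ᵁ (f ⁻¹ᵁ O)) :=
    ((pullbackPushforwardAdjunction g').unit.app F).app (f ⁻¹ᵁ O) x
  have e : g' ⁻¹ᵁ (f ⁻¹ᵁ O) = f' ⁻¹ᵁ (g ⁻¹ᵁ O) := by
    rw [← Scheme.Hom.comp_preimage, ← Scheme.Hom.comp_preimage, w]
  show ((pullback g').obj F).presheaf.map (homOfLE (f'.preimage_mono hle)).op
    (((pullback g').obj F).presheaf.map (eqToHom e.symm).op y) = _
  exact QCoh.map_map _ _ _

theorem bc0_app_pullSec (w : g' ≫ f = f' ≫ g) (F : X.Modules) {O : S.Opens} {W : S'.Opens} (hle : W ≤ g ⁻¹ᵁ O)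
    (x : Γ(F, f ⁻¹ᵁ O)) :
    (show Γ((pullback g').obj F, f' ⁻¹ᵁ W) from (CohBC.bc0 f g f' g' w F).app W
      (pullSec g ((pushforward f).obj F) hle (show Γ((pushforward f).obj F, O) from x))) =
      pullSec g' F (le_square f g f' g' w hle) x := by
  refine Eq.trans ?_ (secMap_bc0Adj f g f' g' w F hle x)
  let adj := pullbackPushforwardAdjunction g
  have h1 : adj.unit.app _ ≫ (pushforward g).map (CohBC.bc0 f g f' g' w F) = CohBC.bc0Adj f g f' g' w F :=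
    (adj.homEquiv_unit _ _ _).symm.trans (Equiv.apply_symm_apply _ _)
  exact (QCoh.map_app_comm (CohBC.bc0 f g f' g' w F) (homOfLE hle) _).trans
    (congrArg _ (congrArg (fun t => t.app O (show Γ((pushforward f).obj F, O) from x)) h1))

variable {Y Z U V W : Scheme.{u}}

/-- Base change maps compose horizontally. -/
theorem bc0_comp_horizontal (f : X ⟶ Y) (g : Y ⟶ Z) (ξ : X ⟶ U) (η : Y ⟶ V) (ζ : Z ⟶ W) (φ : U ⟶ V) (ψ : V ⟶ W)
    (h₁ : f ≫ η = ξ ≫ φ) (h₂ : g ≫ ζ = η ≫ ψ) (hw : (f ≫ g) ≫ ζ = ξ ≫ (φ ≫ ψ)) (L : Z.Modules) :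
    (pullbackComp φ ψ).hom.app ((pushforward ζ).obj L) ≫ CohBC.bc0 ζ (φ ≫ ψ) ξ (f ≫ g) hw L =
      (pullback φ).map (CohBC.bc0 ζ ψ η g h₂ L) ≫ CohBC.bc0 η φ ξ f h₁ ((pullback g).obj L) ≫
        (pushforward ξ).map ((pullbackComp f g).hom.app L) := by
  refine pullback_hom_ext φ fun O y => ?_
  revert y
  suffices h : ((pullbackPushforwardAdjunction φ).homEquiv _ _) ((pullbackComp φ ψ).hom.app ((pushforward ζ).obj L) ≫
      CohBC.bc0 ζ (φ ≫ ψ) ξ (f ≫ g) hw L) = ((pullbackPushforwardAdjunction φ).homEquiv _ _)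
      ((pullback φ).map (CohBC.bc0 ζ ψ η g h₂ L) ≫ CohBC.bc0 η φ ξ f h₁ ((pullback g).obj L) ≫
        (pushforward ξ).map ((pullbackComp f g).hom.app L)) by
    intro y
    rw [((pullbackPushforwardAdjunction φ).homEquiv _ _).injective h]
  refine pullback_hom_ext ψ fun P x => ?_
  let z : Γ((pullback g).obj L, η ⁻¹ᵁ (ψ ⁻¹ᵁ P)) := pullSec g L (le_square ζ ψ η g h₂ le_rfl) x
  rw [Adjunction.homEquiv_unit, Adjunction.homEquiv_unit]
  let Q : U.Modules := (pushforward ξ).obj ((pullback (f ≫ g)).obj L)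
  let u := pullSec ψ ((pushforward ζ).obj L) (le_refl (ψ ⁻¹ᵁ P)) x
  have hu : ∀ a : (pullback φ).obj ((pullback ψ).obj ((pushforward ζ).obj L)) ⟶ Q,
      (((pullbackPushforwardAdjunction φ).unit.app _ ≫ (pushforward φ).map a).app (ψ ⁻¹ᵁ P) u :
        Γ(Q, φ ⁻¹ᵁ (ψ ⁻¹ᵁ P))) =
      a.app (φ ⁻¹ᵁ (ψ ⁻¹ᵁ P)) (pullSec φ _ (le_refl (φ ⁻¹ᵁ (ψ ⁻¹ᵁ P))) u) := fun a =>
    congrArg (a.app _) (QCoh.map_id' _ _).symm
  refine (hu _).trans (Eq.trans ?_ (hu _).symm)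
  refine (congrArg ((CohBC.bc0 ζ (φ ≫ ψ) ξ (f ≫ g) hw L).app _)
    (ExistEasy.pullSec_comp φ ψ _ (le_refl _) (le_refl _) x)).trans ?_
  refine (bc0_app_pullSec ζ (φ ≫ ψ) ξ (f ≫ g) hw L (W := φ ⁻¹ᵁ (ψ ⁻¹ᵁ P)) le_rfl x).trans ?_
  refine Eq.trans ?_ (congrArg (fun t => ((pushforward ξ).map ((pullbackComp f g).hom.app L)).app _
      ((CohBC.bc0 η φ ξ f h₁ ((pullback g).obj L)).app _ t))
    (ExistEasy.pullSec_natural φ (CohBC.bc0 ζ ψ η g h₂ L) (le_refl _) u)).symm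
  rw [show (CohBC.bc0 ζ ψ η g h₂ L).app (ψ ⁻¹ᵁ P) u =
      (show Γ((pushforward η).obj ((pullback g).obj L), ψ ⁻¹ᵁ P) from z) from bc0_app_pullSec ζ ψ η g h₂ L le_rfl x]
  refine Eq.trans ?_ (congrArg (((pullbackComp f g).hom.app L).app _)
    (bc0_app_pullSec η φ ξ f h₁ ((pullback g).obj L) (W := φ ⁻¹ᵁ (ψ ⁻¹ᵁ P)) le_rfl z)).symm
  exact (ExistEasy.pullSec_comp f g L (le_square ζ ψ η g h₂ le_rfl) (le_square η φ ξ f h₁ le_rfl) x).symm

end Groth.Agent.PBC
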