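import Groth.Agent.PBC.Top
import Groth.Agent.S0458

/-!
# Higher direct images at a point with split differentials
-/

set_option autoImplicit false
set_option linter.style.haveILetI false
set_option backward.isDefEq.respectTransparency false
set_option backward.isDefEq.respectTransparency.types false
set_option maxHeartbeats 1000000
set_option synthInstance.maxHeartbeats 400000

universe u

open CategoryTheory CategoryTheory.Limits AlgebraicGeometry TopologicalSpace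
open scoped TensorProduct

noncomputable section

namespace Groth.Agent.PBC

open Groth.Agent Groth.Agent.QCoh

/-- Sections that are a direct summand of a free module up to a factor give local freeness. -/
theorem exists_free_nhd_of_retract {S : Scheme.{u}} {G : S.Modules} (hG : Coh.IsQCoh G) {V : S.Opens}
    (hV : IsAffineOpen V) (r : Γ(S, V)) {N : Type u} [AddCommGroup N] [Module Γ(S, V) N] [Module.Finite Γ(S, V) N]
    [Module.Free Γ(S, V) N] (a₀ : Γ(G, V) →ₗ[Γ(S, V)] N) (b₀ : N →ₗ[Γ(S, V)] Γ(G, V))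
    (hab : b₀ ∘ₗ a₀ = r • LinearMap.id) (y : S) (hy : y ∈ S.basicOpen r) :
    ∃ (O : S.Opens) (n : ℕ), y ∈ O ∧ Nonempty (G.restrict O.ι ≅ FlatMod.freeMod (O : Scheme.{u}) n) := by
  let G₁ := G.restrict hV.fromSpec
  have hG₁ : Coh.IsQCoh G₁ := QCoh.isQCoh_restrict _ hG
  let M := moduleSpecΓFunctor.obj G₁
  let a : M →ₗ[Γ(S, V)] N := a₀ ∘ₗ (chartEquiv hV G).symm.toLinearMap
  let b : N →ₗ[Γ(S, V)] M := (chartEquiv hV G).toLinearMap ∘ₗ b₀
  have hab' : ∀ x : M, b (a x) = r • x := fun x => by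
    show chartEquiv hV G (b₀ (a₀ ((chartEquiv hV G).symm x))) = r • x
    rw [show b₀ (a₀ ((chartEquiv hV G).symm x)) = r • (chartEquiv hV G).symm x from DFunLike.congr_fun hab _,
      map_smul, LinearEquiv.apply_symm_apply]
  let B := Localization.Away r
  let c : B ⊗[Γ(S, V)] M →ₗ[B] B ⊗[Γ(S, V)] N := a.baseChange B
  let u : B := (IsLocalization.Away.algebraMap_isUnit (S := B) r).unit⁻¹.val
  let d : B ⊗[Γ(S, V)] N →ₗ[B] B ⊗[Γ(S, V)] M := u • b.baseChange B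
  have hdc : d ∘ₗ c = LinearMap.id := by
    refine TensorProduct.AlgebraTensorModule.ext fun z x => ?_
    show u • b.baseChange B (a.baseChange B (z ⊗ₜ x)) = z ⊗ₜ[Γ(S, V)] x
    rw [LinearMap.baseChange_tmul, LinearMap.baseChange_tmul, hab', TensorProduct.tmul_smul,
      ← algebraMap_smul B r, smul_smul, IsUnit.val_inv_mul, one_smul]
  let σ := Spec.map (CommRingCat.ofHom (algebraMap Γ(S, V) B))
  have hlf : FlatMod.IsFinLocFree ((Scheme.Modules.pullback σ).obj G₁) := by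
    obtain ⟨e⟩ := S2265.result Γ(S, V) B M
    haveI := (isQuasicoherent_iff_isIso_fromTildeΓ G₁).1 hG₁
    refine H23.PullPush.isFinLocFree_of_iso
      (e.symm ≪≫ (Scheme.Modules.pullback _).mapIso (asIso G₁.fromTildeΓ)) ?_
    exact (isFinLocFree_tilde_iff _).2 ⟨Module.Finite.of_surjective d fun z => ⟨c z, DFunLike.congr_fun hdc z⟩,
      Module.Projective.of_split c d hdc⟩
  haveI : IsOpenImmersion σ := IsOpenImmersion.of_isLocalization r
  let k := σ ≫ hV.fromSpec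
  let eG : G.restrict k ≅ (Scheme.Modules.pullback σ).obj G₁ :=
    (restrictRestrict G σ hV.fromSpec).symm ≪≫ (Scheme.Modules.restrictFunctorIsoPullback σ).app G₁
  obtain ⟨z, hz⟩ : y ∈ Set.range k.base := by
    have hr : Set.range σ.base = (PrimeSpectrum.basicOpen r : Set (PrimeSpectrum Γ(S, V))) :=
      PrimeSpectrum.localization_away_comap_range B r
    rw [Scheme.Hom.comp_base, TopCat.coe_comp, Set.range_comp, hr]
    exact ((Set.ext_iff.1 (congrArg (fun O : S.Opens => (O : Set S)) (hV.fromSpec_image_basicOpen r))) y).2 hy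
  obtain ⟨O, n, hzO, ⟨i⟩⟩ := hlf z
  refine ⟨k ''ᵁ O, n, ⟨z, hzO, hz⟩, ⟨?_⟩⟩
  let u' := (k.isoImage O).inv ≫ O.ι
  have hu : u' ≫ k = (k ''ᵁ O).ι := by simp [u']
  exact (Scheme.Modules.restrictFunctorCongr hu).symm.app G ≪≫ (restrictRestrict G u' k).symm ≪≫
    (Scheme.Modules.restrictFunctor u').mapIso eG ≪≫
    (restrictRestrict _ (k.isoImage O).inv O.ι).symm ≪≫
    (Scheme.Modules.restrictFunctor (k.isoImage O).inv).mapIso i ≪≫ freeModRestrict _ n

variable {X S : Scheme.{u}} (f : X ⟶ S) [IsProper f] [LocallyOfFinitePresentation f] {F : X.Modules}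

/-- Sections of higher direct images through a natural model. -/
theorem nonempty_sections_natModel [HasInjectiveResolutions X.Modules] (hF : CohB1.IsFP F) {V : S.Opens}
    (hV : IsAffineOpen V) {P : ChainComplex (ModuleCat.{u} Γ(S, V)) ℤ}
    (hP : letI : ((f ⁻¹ᵁ V : X.Opens) : Scheme.{u}).Over (Spec (CommRingCat.of Γ(S, V))) := ⟨overSpec f hV⟩
      IsNatModel ((Scheme.Modules.pullback (f ⁻¹ᵁ V).ι).obj F) P) (p : ℕ) :
    Nonempty (Γ((Coh.Rpush f p).obj F, V) ≃ₗ[Γ(S, V)] CohIII.T P (-(p : ℤ)) (ModuleCat.of Γ(S, V) Γ(S, V))) := by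
  letI : ((f ⁻¹ᵁ V : X.Opens) : Scheme.{u}).Over (Spec (CommRingCat.of Γ(S, V))) := ⟨overSpec f hV⟩
  haveI : IsProper (((f ⁻¹ᵁ V : X.Opens) : Scheme.{u}) ↘ Spec (CommRingCat.of Γ(S, V))) := (proper_overSpec f hV).1
  let π := ((f ⁻¹ᵁ V : X.Opens) : Scheme.{u}) ↘ Spec (CommRingCat.of Γ(S, V))
  haveI : CompactSpace ((f ⁻¹ᵁ V : X.Opens) : Scheme.{u}) := QuasiCompact.compactSpace_of_compactSpace π
  haveI : ((f ⁻¹ᵁ V : X.Opens) : Scheme.{u}).IsSeparated := ⟨by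
    rw [← Limits.terminal.comp_from π]
    infer_instance⟩
  let FA := (Scheme.Modules.pullback (f ⁻¹ᵁ V).ι).obj F
  have hq : Coh.IsQCoh FA := QCoh.isQCoh_pullback _ (QCoh.isQCoh_of_isFP hF)
  obtain ⟨κ, _, U, hcov, hU⟩ := exists_affine_cover (X := ((f ⁻¹ᵁ V : X.Opens) : Scheme.{u}))
  obtain ⟨e₁⟩ := hP.2.2.2 p
  obtain ⟨e₂⟩ := nonempty_tfun_iso (A := Γ(S, V)) FA hq hcov hU p
  obtain ⟨l₁⟩ := nonempty_tfun_linearEquiv (e₂ ≪≫ e₁.symm) (ModuleCat.of Γ(S, V) Γ(S, V))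
  obtain ⟨l₂⟩ := cxMod_homology_equiv (Coh.toGlobal π) U hcov hU hq p
  obtain ⟨l₃⟩ := nonempty_sections_HH (f := f) (QCoh.isQCoh_of_isFP hF) hV p
  rw [← toGlobal_overSpec f hV] at l₃
  exact ⟨l₃.trans ((HHcongr (Coh.toGlobal (overSpec f hV))
    ((Scheme.Modules.restrictFunctorIsoPullback (f ⁻¹ᵁ V).ι).app F) p).trans (l₂.symm.trans
      (((HomologicalComplex.homologyFunctor _ _ p).mapIso (tensorSelfIso (P := cechA (A := Γ(S, V)) FA U)).symm).toLinearEquiv.trans l₁)))⟩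

/-- `R^1 f_*F` is locally free near points with `H^2 = 0` on the fibre and epimorphic base change in degree zero. -/
theorem isFinLocFree_Rpush_one [HasInjectiveResolutions X.Modules] (hF : CohB1.IsFP F)
    (hfl : FlatMod.IsFlatOver f F) (h2 : ∀ y : S, Subsingleton (CohIII.fiberH f F y 2))
    (h0 : ∀ y : S, Epi (CohBC.bc0 f (S.fromSpecResidueField y) (f.fiberToSpecResidueField y) (f.fiberι y)
      (f.fiber_fac y) F)) :
    FlatMod.IsFinLocFree ((Coh.Rpush f 1).obj F) := fun s => by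
  obtain ⟨_, ⟨V, hV, rfl⟩, hsV, -⟩ :=
    S.isBasis_affineOpens.exists_subset_of_mem_open (Set.mem_univ s) isOpen_univ
  have hV' : IsAffineOpen V := hV
  letI : ((f ⁻¹ᵁ V : X.Opens) : Scheme.{u}).Over (Spec (CommRingCat.of Γ(S, V))) := ⟨overSpec f hV'⟩
  haveI : IsProper (((f ⁻¹ᵁ V : X.Opens) : Scheme.{u}) ↘ Spec (CommRingCat.of Γ(S, V))) := (proper_overSpec f hV').1
  haveI : LocallyOfFinitePresentation (((f ⁻¹ᵁ V : X.Opens) : Scheme.{u}) ↘ Spec (CommRingCat.of Γ(S, V))) :=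
    (proper_overSpec f hV').2
  haveI : CompactSpace ((f ⁻¹ᵁ V : X.Opens) : Scheme.{u}) :=
    QuasiCompact.compactSpace_of_compactSpace (((f ⁻¹ᵁ V : X.Opens) : Scheme.{u}) ↘ Spec (CommRingCat.of Γ(S, V)))
  haveI : ((f ⁻¹ᵁ V : X.Opens) : Scheme.{u}).IsSeparated := ⟨by
    rw [← Limits.terminal.comp_from (((f ⁻¹ᵁ V : X.Opens) : Scheme.{u}) ↘ Spec (CommRingCat.of Γ(S, V)))]
    infer_instance⟩
  obtain ⟨P, hP⟩ := exists_isNatModel (ModStLib.isFP_pullback (f ⁻¹ᵁ V).ι hF) (isFlatOver_overSpec f hfl hV')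
  obtain ⟨g₀, p₀, h₀, hg₀, hepi⟩ := exists_fibre_square f hF hV' hsV
  obtain ⟨r₀, H, hr₀, hH⟩ := exists_homotopy_of_epi (ModStLib.isFP_pullback (f ⁻¹ᵁ V).ι hF) hP _
    (f.fiber s) g₀ p₀ h₀ (hepi (h0 s))
  let 𝔭 := (hV'.primeIdealOf ⟨s, hsV⟩).asIdeal
  letI : (f.fiber s).Over (Spec (CommRingCat.of 𝔭.ResidueField)) := ⟨p₀⟩
  obtain ⟨l⟩ := bcCx_isBCModel_aux (QCoh.isQCoh_pullback _ (QCoh.isQCoh_of_isFP hF)) P hP.2.2.2
    (algebraMap Γ(S, V) 𝔭.ResidueField) g₀ h₀ 2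
  let e : (Scheme.Modules.pullback g₀).obj ((Scheme.Modules.pullback (f ⁻¹ᵁ V).ι).obj F) ≅ CohIII.fiberMod f F s :=
    (Scheme.Modules.pullbackComp g₀ _).app F ≪≫ (Scheme.Modules.pullbackCongr hg₀).app F
  haveI := h2 s
  haveI : Subsingleton (Coh.HH (f.fiber s) ((Scheme.Modules.pullback g₀).obj
      ((Scheme.Modules.pullback (f ⁻¹ᵁ V).ι).obj F)) 2) :=
    (HHcongr (Coh.toGlobal (A := S.residueField s) (f.fiberToSpecResidueField s)) e 2).toEquiv.subsingleton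
  haveI : Subsingleton ((CohIII.bcCx (algebraMap Γ(S, V) 𝔭.ResidueField) P).homology (-((2 : ℕ) : ℤ))) :=
    l.symm.toEquiv.subsingleton
  obtain ⟨r₁, H₁, hr₁, hH₁⟩ := exists_homotopy_of_exactAt P hP.1 hP.2.1 (-((1 : ℕ) : ℤ)) rfl 𝔭 (by
    rw [show (ComplexShape.down ℤ).next (-((1 : ℕ) : ℤ)) = -((2 : ℕ) : ℤ) by simp]
    exact (HomologicalComplex.exactAt_iff_isZero_homology _ _).2 (ModuleCat.isZero_of_subsingleton _))
  obtain ⟨H₀, hH₀⟩ : ∃ H₀ : P.X (-((1 : ℕ) : ℤ)) →ₗ[Γ(S, V)] P.X (-((0 : ℕ) : ℤ)),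
      (P.d (-((0 : ℕ) : ℤ)) (-((1 : ℕ) : ℤ))).hom ∘ₗ H₀ ∘ₗ (P.d (-((0 : ℕ) : ℤ)) (-((1 : ℕ) : ℤ))).hom =
        r₀ • (P.d (-((0 : ℕ) : ℤ)) (-((1 : ℕ) : ℤ))).hom := by
    have hn : (ComplexShape.down ℤ).next (-((0 : ℕ) : ℤ)) = -((1 : ℕ) : ℤ) := by simp
    revert H
    rw [hn]
    exact fun H hH => ⟨H, hH⟩
  obtain ⟨a, b, hab⟩ := exists_retract_T P (-((0 : ℕ) : ℤ)) (-((1 : ℕ) : ℤ)) (by simp) hH₁ hH₀
  obtain ⟨ε⟩ := nonempty_sections_natModel f hF hV' hP 1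
  haveI := hP.1 (-((1 : ℕ) : ℤ)); haveI := hP.2.1 (-((1 : ℕ) : ℤ))
  exact exists_free_nhd_of_retract (QCoh.isQCoh_Rpush f (QCoh.isQCoh_of_isFP hF) 1) hV' (r₁ * r₀)
    (a ∘ₗ ε.toLinearMap) (ε.symm.toLinearMap ∘ₗ b) (LinearMap.ext fun x => ε.injective (by
      show ε (ε.symm (b (a (ε x)))) = ε ((r₁ * r₀) • x)
      rw [LinearEquiv.apply_symm_apply, map_smul]
      exact DFunLike.congr_fun hab (ε x))) s
    ((mem_basicOpen_iff_notMem hV' hsV _).2 (Ideal.IsPrime.mul_notMem inferInstance hr₁ hr₀))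

/-- Fibre cohomology vanishes above the dimension of the fibre. -/
theorem subsingleton_fiberH_of_dim (s : S) {d : ℕ} (hd : topologicalKrullDim ↥(f.fiber s) ≤ d) {p : ℕ}
    (hp : d < p) : Subsingleton (CohIII.fiberH f F s p) := by
  haveI : IsProper (f.fiberToSpecResidueField s) :=
    inferInstanceAs (IsProper (pullback.snd f (S.fromSpecResidueField s)))
  haveI : IsLocallyNoetherian (f.fiber s) := LocallyOfFiniteType.isLocallyNoetherian (f.fiberToSpecResidueField s)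
  haveI : CompactSpace (f.fiber s) := QuasiCompact.compactSpace_of_compactSpace (f.fiberToSpecResidueField s)
  haveI : IsNoetherian (f.fiber s) := ⟨⟩
  exact S0458.result (X := (f.fiber s).toPresheafedSpace.carrier) d hd (Coh.toAb (CohIII.fiberMod f F s)) p hp

/-- The locus where all higher fibre cohomology vanishes is open. -/
theorem exists_opens_fiberH_pos [HasInjectiveResolutions X.Modules] (hF : CohB1.IsFP F)
    (hfl : FlatMod.IsFlatOver f F) (d : ℕ) (hd : ∀ s : S, topologicalKrullDim ↥(f.fiber s) ≤ d) :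
    ∃ U : S.Opens, ∀ s, s ∈ U ↔ ∀ j : ℕ, 1 ≤ j → Subsingleton (CohIII.fiberH f F s j) := by
  choose U hU using fun j : ℕ => exists_opens_fiberH f F hF hfl j
  refine ⟨⟨⋂ j : Fin d, (U (j + 1) : Set S), isOpen_iInter_of_finite fun j => (U _).2⟩, fun s => ?_⟩
  constructor
  · intro h j hj
    rcases le_or_gt j d with hjd | hjd
    · have h1 : s ∈ U (j - 1 + 1) := Set.mem_iInter.1 h ⟨j - 1, by omega⟩
      rw [show j - 1 + 1 = j by omega] at h1
      exact (hU j s).1 h1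
    · exact subsingleton_fiberH_of_dim f s (hd s) hjd
  · exact fun h => Set.mem_iInter.2 fun j => (hU _ s).2 (h _ (by omega))

end Groth.Agent.PBC
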