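import Groth.Agent.QCoh.BcT
import Groth.Agent.PBC.SplitExact

/-!
# The comparison `T_p(A) ⊗ M → T_p(M)`
-/

set_option autoImplicit false
set_option linter.style.haveILetI false
set_option backward.isDefEq.respectTransparency false
set_option backward.isDefEq.respectTransparency.types false
set_option maxHeartbeats 1000000

universe u

open CategoryTheory CategoryTheory.Limits MonoidalCategory
open scoped TensorProduct

noncomputable section

namespace Groth.Agent.PBC

open Groth.Agent

variable {A : Type u} [CommRing A] {ι : Type} {c : ComplexShape ι}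

section Cls

variable (L : HomologicalComplex (ModuleCat.{u} A) c) (p : ι)

/-- The homology class of a cycle. -/
def clsLin : LinearMap.ker (L.d p (c.next p)).hom →ₗ[A] L.homology p :=
  (L.liftCycles (ModuleCat.ofHom (LinearMap.ker (L.d p (c.next p)).hom).subtype) (c.next p) rfl
    (ModuleCat.hom_ext (LinearMap.ext fun z => z.2)) ≫ L.homologyπ p).hom

theorem iCycles_lift (z : LinearMap.ker (L.d p (c.next p)).hom) :
    L.iCycles p ((L.liftCycles (ModuleCat.ofHom (LinearMap.ker (L.d p (c.next p)).hom).subtype) (c.next p) rfl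
      (ModuleCat.hom_ext (LinearMap.ext fun z => z.2))) z) = z.1 :=
  congr($(L.liftCycles_i (ModuleCat.ofHom (LinearMap.ker (L.d p (c.next p)).hom).subtype) (c.next p) rfl
      (ModuleCat.hom_ext (LinearMap.ext fun z => z.2))) z)

theorem clsLin_eq (z : LinearMap.ker (L.d p (c.next p)).hom) (y : L.cycles p) (hy : L.iCycles p y = z.1) :
    clsLin L p z = L.homologyπ p y :=
  congrArg (L.homologyπ p) ((ModuleCat.mono_iff_injective (L.iCycles p)).1 inferInstance
    ((iCycles_lift L p z).trans hy.symm))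

theorem clsLin_surjective : Function.Surjective (clsLin L p) := fun h => by
  obtain ⟨y, rfl⟩ := (ModuleCat.epi_iff_surjective (L.homologyπ p)).1 inferInstance h
  exact ⟨⟨L.iCycles p y, congr($(L.iCycles_d p (c.next p)) y)⟩, clsLin_eq L p _ y rfl⟩

theorem range_le_ker (o : ι) : ∀ v, (L.d o p).hom v ∈ LinearMap.ker (L.d p (c.next p)).hom := fun v =>
  congr($(L.d_comp_d o p (c.next p)) v)

theorem clsLin_eq_zero {z : LinearMap.ker (L.d p (c.next p)).hom} :
    clsLin L p z = 0 ↔ ∃ v, (L.d (c.prev p) p).hom v = z.1 := by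
  have hex : (ShortComplex.mk (L.toCycles (c.prev p) p) (L.homologyπ p)
      (L.toCycles_comp_homologyπ (c.prev p) p)).Exact :=
    ShortComplex.exact_of_g_is_cokernel _ (L.homologyIsCokernel (c.prev p) p rfl)
  constructor
  · intro h
    obtain ⟨v, hv⟩ := (ShortComplex.moduleCat_exact_iff _).1 hex _ h
    exact ⟨v, (congr($(L.toCycles_i (c.prev p) p) v)).symm.trans
      ((congrArg (L.iCycles p) hv).trans (iCycles_lift L p z))⟩
  · rintro ⟨v, hv⟩
    rw [clsLin_eq L p z (L.toCycles (c.prev p) p v) ((congr($(L.toCycles_i (c.prev p) p) v)).trans hv)]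
    exact congr($(L.toCycles_comp_homologyπ (c.prev p) p) v)

theorem clsLin_map {L' : HomologicalComplex (ModuleCat.{u} A) c} (f : L ⟶ L')
    (z : LinearMap.ker (L.d p (c.next p)).hom) (z' : LinearMap.ker (L'.d p (c.next p)).hom)
    (h : z'.1 = f.f p z.1) : HomologicalComplex.homologyMap f p (clsLin L p z) = clsLin L' p z' := by
  obtain ⟨y, hy⟩ : ∃ y : L.cycles p, L.iCycles p y = z.1 := ⟨_, iCycles_lift L p z⟩
  rw [clsLin_eq L p z y hy, clsLin_eq L' p z' (HomologicalComplex.cyclesMap f p y)
    ((congr($(HomologicalComplex.cyclesMap_i f p) y)).trans ((congrArg (f.f p) hy).trans h.symm))]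
  exact congr($(HomologicalComplex.homologyπ_naturality f p) y)

end Cls

variable (K : HomologicalComplex (ModuleCat.{u} A) c) (p : ι)

/-- The map `A → M` given by an element. -/
abbrev spanHom (M : ModuleCat.{u} A) (m : M) : ModuleCat.of A A ⟶ M :=
  ModuleCat.ofHom (LinearMap.toSpanSingleton A M m)

theorem tfun_map_add {M N : ModuleCat.{u} A} (f g : M ⟶ N) (x : CohIII.T K p M) :
    (CohIII.TFun K p).map (f + g) x = (CohIII.TFun K p).map f x + (CohIII.TFun K p).map g x := by
  have h : CohIII.tensorMap K (f + g) = CohIII.tensorMap K f + CohIII.tensorMap K g :=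
    HomologicalComplex.hom_ext _ _ fun i => ModuleCat.hom_ext (LinearMap.lTensor_add (K.X i) f.hom g.hom)
  show HomologicalComplex.homologyMap (CohIII.tensorMap K (f + g)) p x = _
  rw [h, HomologicalComplex.homologyMap_add]
  rfl

theorem tfun_map_smul_span {M : ModuleCat.{u} A} (a : A) (m : M) (x : CohIII.T K p (ModuleCat.of A A)) :
    (CohIII.TFun K p).map (spanHom M (a • m)) x = a • (CohIII.TFun K p).map (spanHom M m) x := by
  have h : spanHom M (a • m) = spanHom M m ≫ ModuleCat.ofHom (a • LinearMap.id : M →ₗ[A] M) :=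
    ModuleCat.hom_ext (LinearMap.ext fun b => smul_comm b a m)
  rw [h, Functor.map_comp]
  exact QCoh.tfun_map_smul p M a _

/-- `T_p(A) ⊗ M → T_p(M)`. -/
def muT (M : ModuleCat.{u} A) :
    CohIII.T K p (ModuleCat.of A A) ⊗[A] M →ₗ[A] CohIII.T K p M :=
  TensorProduct.lift (LinearMap.mk₂ A (fun x m => (CohIII.TFun K p).map (spanHom M m) x)
    (fun x y m => map_add ((CohIII.TFun K p).map (spanHom M m)).hom x y)
    (fun a x m => map_smul ((CohIII.TFun K p).map (spanHom M m)).hom a x)
    (fun x m n => by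
      show (CohIII.TFun K p).map (spanHom M (m + n)) x = _
      rw [show spanHom M (m + n) = spanHom M m + spanHom M n from
        ModuleCat.hom_ext (LinearMap.ext fun b => smul_add b m n)]
      exact tfun_map_add K p _ _ x)
    (fun a x m => tfun_map_smul_span K p a m x))

theorem muT_tmul (M : ModuleCat.{u} A) (x : CohIII.T K p (ModuleCat.of A A)) (m : M) :
    muT K p M (x ⊗ₜ m) = (CohIII.TFun K p).map (spanHom M m) x := rfl

/-- The cycles of degree `p`. -/
abbrev cyK : Submodule A (K.X p) := LinearMap.ker (K.d p (c.next p)).hom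

/-- The cycles of `K ⊗ M` in degree `p`. -/
abbrev cyT (M : ModuleCat.{u} A) : Submodule A (K.X p ⊗[A] M) :=
  LinearMap.ker ((K.d p (c.next p)).hom.rTensor M)

theorem rTensor_subtype_mem (M : ModuleCat.{u} A) (s : cyK K p ⊗[A] M) :
    (cyK K p).subtype.rTensor M s ∈ cyT K p M := by
  show ((K.d p (c.next p)).hom.rTensor M) ((cyK K p).subtype.rTensor M s) = 0
  rw [← LinearMap.comp_apply, ← LinearMap.rTensor_comp,
    show (K.d p (c.next p)).hom ∘ₗ (cyK K p).subtype = 0 from LinearMap.ext fun z => z.2,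
    LinearMap.rTensor_zero, LinearMap.zero_apply]

/-- `ker d ⊗ M → ker (d ⊗ M)`. -/
def cycTen (M : ModuleCat.{u} A) : cyK K p ⊗[A] M →ₗ[A] cyT K p M :=
  ((cyK K p).subtype.rTensor M).codRestrict _ (rTensor_subtype_mem K p M)

/-- The class in `T_p(M)`. -/
def clsT (M : ModuleCat.{u} A) : cyT K p M →ₗ[A] CohIII.T K p M := clsLin (CohIII.tensorObj K M) p

/-- A cycle as a cycle of `K ⊗ A`. -/
def cyOne : cyK K p →ₗ[A] cyT K p (ModuleCat.of A A) :=
  (((TensorProduct.rid A (K.X p)).symm.toLinearMap).comp (cyK K p).subtype).codRestrict _ fun z => by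
    show ((K.d p (c.next p)).hom.rTensor A) ((z.1 : K.X p) ⊗ₜ[A] (1 : A)) = 0
    rw [LinearMap.rTensor_tmul, show (K.d p (c.next p)).hom z.1 = 0 from z.2, TensorProduct.zero_tmul]

/-- The class in `T_p(A)`. -/
def clsA : cyK K p →ₗ[A] CohIII.T K p (ModuleCat.of A A) := clsT K p _ ∘ₗ cyOne K p

theorem cyOne_surjective : Function.Surjective (cyOne K p) := fun w => by
  obtain ⟨z, hz⟩ := (TensorProduct.rid A (K.X p)).symm.surjective w.1
  refine ⟨⟨z, ?_⟩, Subtype.ext hz⟩
  have h := congrArg (TensorProduct.rid A (K.X (c.next p))) (show ((K.d p (c.next p)).hom.rTensor A) w.1 = 0 from w.2)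
  rw [← hz] at h
  simpa using h

theorem clsA_surjective : Function.Surjective (clsA K p) :=
  (clsLin_surjective (CohIII.tensorObj K (ModuleCat.of A A)) p).comp (cyOne_surjective K p)

theorem clsA_eq_zero {z : cyK K p} : clsA K p z = 0 ↔ ∃ v, (K.d (c.prev p) p).hom v = z.1 := by
  refine (clsLin_eq_zero (CohIII.tensorObj K (ModuleCat.of A A)) p).trans ⟨fun ⟨v, hv⟩ => ?_, fun ⟨v, hv⟩ => ?_⟩
  · obtain ⟨w, rfl⟩ := (TensorProduct.rid A (K.X (c.prev p))).symm.surjective v
    refine ⟨w, ?_⟩
    have h : ((K.d (c.prev p) p).hom.rTensor A) (w ⊗ₜ[A] (1 : A)) = (z.1 : K.X p) ⊗ₜ[A] (1 : A) := hv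
    simpa using congrArg (TensorProduct.rid A (K.X p)) h
  · exact ⟨v ⊗ₜ[A] (1 : A), by
      show ((K.d (c.prev p) p).hom.rTensor A) (v ⊗ₜ[A] (1 : A)) = (z.1 : K.X p) ⊗ₜ[A] (1 : A)
      rw [LinearMap.rTensor_tmul, hv]⟩

theorem muT_rTensor (M : ModuleCat.{u} A) (s : cyK K p ⊗[A] M) :
    muT K p M ((clsA K p).rTensor M s) = clsT K p M (cycTen K p M s) := by
  induction s using TensorProduct.induction_on with
  | zero => simp
  | add a b ha hb => simp only [map_add, ha, hb]
  | tmul z m =>
    rw [LinearMap.rTensor_tmul, muT_tmul]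
    refine clsLin_map (CohIII.tensorObj K (ModuleCat.of A A)) p (CohIII.tensorMap K (spanHom M m))
      (cyOne K p z) (cycTen K p M (z ⊗ₜ m)) ?_
    show (z.1 : K.X p) ⊗ₜ[A] m = (z.1 : K.X p) ⊗ₜ[A] ((1 : A) • m)
    rw [one_smul]

/-- Boundaries of `K ⊗ M` come from cycles of `K`. -/
theorem d_rTensor_eq (M : ModuleCat.{u} A) (v : K.X (c.prev p) ⊗[A] M) :
    (K.d (c.prev p) p).hom.rTensor M v =
      (cyK K p).subtype.rTensor M (((K.d (c.prev p) p).hom.codRestrict _ (range_le_ker K p _)).rTensor M v) := by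
  rw [← LinearMap.comp_apply, ← LinearMap.rTensor_comp]
  rfl

theorem surjective_muT_iff (M : ModuleCat.{u} A) :
    Function.Surjective (muT K p M) ↔ ∀ w ∈ cyT K p M, w ∈ LinearMap.range ((cyK K p).subtype.rTensor M) := by
  constructor
  · intro h w hw
    obtain ⟨t, ht⟩ := h (clsT K p M ⟨w, hw⟩)
    obtain ⟨s, rfl⟩ := LinearMap.rTensor_surjective M (clsA_surjective K p) t
    rw [muT_rTensor] at ht
    obtain ⟨v, hv⟩ := (clsLin_eq_zero (CohIII.tensorObj K M) p).1
      (show clsT K p M (⟨w, hw⟩ - cycTen K p M s) = 0 by rw [map_sub, ht, sub_self])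
    have hv' : (K.d (c.prev p) p).hom.rTensor M v = w - (cyK K p).subtype.rTensor M s := hv
    rw [d_rTensor_eq] at hv'
    exact ⟨((K.d (c.prev p) p).hom.codRestrict _ (range_le_ker K p _)).rTensor M v + s,
      (map_add _ _ _).trans (by rw [hv', sub_add_cancel])⟩
  · intro h y
    obtain ⟨w, rfl⟩ := clsLin_surjective (CohIII.tensorObj K M) p y
    obtain ⟨s, hs⟩ := h w.1 w.2
    exact ⟨(clsA K p).rTensor M s, (muT_rTensor K p M s).trans (congrArg (clsT K p M) (Subtype.ext hs))⟩

theorem injective_muT_of (M : ModuleCat.{u} A) (hi : Function.Injective ((cyK K p).subtype.rTensor M)) :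
    Function.Injective (muT K p M) := by
  rw [injective_iff_map_eq_zero]
  intro t ht
  obtain ⟨s, rfl⟩ := LinearMap.rTensor_surjective M (clsA_surjective K p) t
  rw [muT_rTensor] at ht
  obtain ⟨v, hv⟩ := (clsLin_eq_zero (CohIII.tensorObj K M) p).1 ht
  have hv' : (K.d (c.prev p) p).hom.rTensor M v = (cyK K p).subtype.rTensor M s := hv
  rw [d_rTensor_eq] at hv'
  rw [← hi hv', ← LinearMap.comp_apply, ← LinearMap.rTensor_comp,
    show clsA K p ∘ₗ (K.d (c.prev p) p).hom.codRestrict _ (range_le_ker K p _) = 0 from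
      LinearMap.ext fun x => (clsA_eq_zero K p).2 ⟨x, rfl⟩,
    LinearMap.rTensor_zero, LinearMap.zero_apply]

theorem injective_rTensor_of_muT (M : ModuleCat.{u} A) (hd : K.d (c.prev p) p = 0)
    (hinj : Function.Injective (muT K p M)) : Function.Injective ((cyK K p).subtype.rTensor M) := by
  rw [injective_iff_map_eq_zero]
  intro s hs
  have hbij : Function.Bijective (clsA K p) := ⟨(injective_iff_map_eq_zero _).2 fun z hz => by
    obtain ⟨v, hv⟩ := (clsA_eq_zero K p).1 hz
    exact Subtype.ext (hv.symm.trans (by rw [hd]; rfl)), clsA_surjective K p⟩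
  refine ((LinearEquiv.ofBijective _ hbij).rTensor M).injective ((hinj ?_).trans (map_zero _).symm)
  show muT K p M ((clsA K p).rTensor M s) = muT K p M 0
  rw [muT_rTensor, map_zero, show cycTen K p M s = 0 from Subtype.ext hs, map_zero]

/-- A quasi-inverse of the differential, up to a unit on `M`, makes `μ` bijective. -/
theorem bijective_muT_of_homotopy (M : ModuleCat.{u} A) (H : K.X (c.next p) →ₗ[A] K.X p) (r : A)
    (hH : (K.d p (c.next p)).hom ∘ₗ H ∘ₗ (K.d p (c.next p)).hom = r • (K.d p (c.next p)).hom)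
    (hr : Function.Bijective fun m : M => r • m) : Function.Bijective (muT K p M) := by
  let d := (K.d p (c.next p)).hom
  let ρ : K.X p →ₗ[A] cyK K p := (r • LinearMap.id - H ∘ₗ d).codRestrict _ fun x => by
    show d (r • x - H (d x)) = 0
    rw [map_sub, map_smul, show d (H (d x)) = r • d x from DFunLike.congr_fun hH x, sub_self]
  let σ : M ≃ₗ[A] M := LinearEquiv.ofBijective (r • LinearMap.id) hr
  have hρi : ρ ∘ₗ (cyK K p).subtype = r • LinearMap.id := LinearMap.ext fun z => Subtype.ext (by
    show r • (z.1 : K.X p) - H (d z.1) = r • (z.1 : K.X p)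
    rw [show d z.1 = 0 from z.2, map_zero, sub_zero])
  have hr' : ∀ {N : Type u} [AddCommGroup N] [Module A N] (t : N ⊗[A] M), r • t = σ.toLinearMap.lTensor N t := by
    intro N _ _ t
    rw [show σ.toLinearMap = r • LinearMap.id from LinearMap.ext fun m => rfl, LinearMap.lTensor_smul,
      LinearMap.lTensor_id]
    rfl
  refine ⟨injective_muT_of K p M ?_, (surjective_muT_iff K p M).2 fun w hw => ?_⟩
  · intro s t h
    have h' := congrArg (ρ.rTensor M) h
    simp only [← LinearMap.comp_apply, ← LinearMap.rTensor_comp, hρi, LinearMap.rTensor_smul, LinearMap.rTensor_id,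
      LinearMap.smul_apply, LinearMap.id_apply, hr'] at h'
    exact (σ.lTensor (cyK K p)).injective h'
  · have h1 : (cyK K p).subtype.rTensor M (ρ.rTensor M w) = r • w := by
      rw [← LinearMap.comp_apply, ← LinearMap.rTensor_comp,
        show (cyK K p).subtype ∘ₗ ρ = r • LinearMap.id - H ∘ₗ d from rfl,
        LinearMap.rTensor_sub, LinearMap.rTensor_smul, LinearMap.rTensor_id, LinearMap.sub_apply,
        LinearMap.rTensor_comp, LinearMap.comp_apply, show d.rTensor M w = 0 from hw, map_zero, sub_zero]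
      rfl
    refine ⟨σ.symm.toLinearMap.lTensor _ (ρ.rTensor M w), ?_⟩
    have hc : ∀ u, (cyK K p).subtype.rTensor M (σ.symm.toLinearMap.lTensor _ u) =
        σ.symm.toLinearMap.lTensor _ ((cyK K p).subtype.rTensor M u) := fun u => by
      induction u using TensorProduct.induction_on with
      | zero => simp
      | add a b ha hb => simp only [map_add, ha, hb]
      | tmul z m => rfl
    rw [hc, h1, hr', ← LinearMap.comp_apply, ← LinearMap.lTensor_comp,
      show σ.symm.toLinearMap ∘ₗ σ.toLinearMap = LinearMap.id from LinearMap.ext σ.symm_apply_apply,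
      LinearMap.lTensor_id, LinearMap.id_apply]

section Transfer

variable {ι' : Type} {c' : ComplexShape ι'} {K' : HomologicalComplex (ModuleCat.{u} A) c'} {p' : ι'}
  {K p}

theorem muT_natural
    (e : CohIII.TFun K p ⋙ forget₂ (ModuleCat.{u} A) AddCommGrpCat.{u} ≅
      CohIII.TFun K' p' ⋙ forget₂ (ModuleCat.{u} A) AddCommGrpCat.{u}) (M : ModuleCat.{u} A) :
    ∃ (eA : CohIII.T K p (ModuleCat.of A A) ≃ₗ[A] CohIII.T K' p' (ModuleCat.of A A))
      (eM : CohIII.T K p M ≃ₗ[A] CohIII.T K' p' M),
      ∀ t, eM (muT K p M t) = muT K' p' M ((eA.rTensor M) t) := by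
  have hl : ∀ (N : ModuleCat.{u} A) (a : A) (x : CohIII.T K p N),
      (show CohIII.T K' p' N from e.hom.app N (a • x : CohIII.T K p N)) =
        a • (show CohIII.T K' p' N from e.hom.app N x) := fun N a x => by
    rw [← QCoh.tfun_map_smul p N a x, ← QCoh.tfun_map_smul p' N a]
    exact ConcreteCategory.congr_hom (e.hom.naturality (ModuleCat.ofHom (a • LinearMap.id : N →ₗ[A] N))) x
  let E : ∀ N : ModuleCat.{u} A, CohIII.T K p N ≃ₗ[A] CohIII.T K' p' N := fun N =>
    AddEquiv.toLinearEquiv (e.app N).addCommGroupIsoToAddEquiv (hl N)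
  refine ⟨E _, E M, fun t => ?_⟩
  induction t using TensorProduct.induction_on with
  | zero => simp
  | add a b ha hb => simp only [map_add, ha, hb]
  | tmul x m =>
    rw [LinearEquiv.rTensor_tmul, muT_tmul, muT_tmul]
    exact ConcreteCategory.congr_hom (e.hom.naturality (spanHom M m)) x

theorem surjective_muT_congr
    (e : CohIII.TFun K p ⋙ forget₂ (ModuleCat.{u} A) AddCommGrpCat.{u} ≅
      CohIII.TFun K' p' ⋙ forget₂ (ModuleCat.{u} A) AddCommGrpCat.{u}) {M : ModuleCat.{u} A}
    (h : Function.Surjective (muT K p M)) : Function.Surjective (muT K' p' M) := fun y => by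
  obtain ⟨eA, eM, he⟩ := muT_natural e M
  obtain ⟨t, ht⟩ := h (eM.symm y)
  exact ⟨eA.rTensor M t, (he t).symm.trans (by rw [ht, LinearEquiv.apply_symm_apply])⟩

theorem bijective_muT_congr
    (e : CohIII.TFun K p ⋙ forget₂ (ModuleCat.{u} A) AddCommGrpCat.{u} ≅
      CohIII.TFun K' p' ⋙ forget₂ (ModuleCat.{u} A) AddCommGrpCat.{u}) {M : ModuleCat.{u} A}
    (h : Function.Bijective (muT K p M)) : Function.Bijective (muT K' p' M) := by
  obtain ⟨eA, eM, he⟩ := muT_natural e M
  have : ⇑(muT K' p' M) = eM ∘ muT K p M ∘ (eA.rTensor M).symm := funext fun t => by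
    simp only [Function.comp_apply, he, LinearEquiv.apply_symm_apply]
  rw [this]
  exact eM.bijective.comp (h.comp (LinearEquiv.bijective _))

end Transfer

/-- Surjectivity at a residue field gives a quasi-inverse of the differential nearby. -/
theorem exists_homotopy_of_surjective [Module.Finite A (K.X p)] [Module.Free A (K.X p)]
    [Module.Finite A (K.X (c.next p))] [Module.Free A (K.X (c.next p))] (P : Ideal A) [P.IsPrime]
    (h : Function.Surjective (muT K p (ModuleCat.of A P.ResidueField))) :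
    ∃ (r : A) (H : K.X (c.next p) →ₗ[A] K.X p), r ∉ P ∧
      (K.d p (c.next p)).hom ∘ₗ H ∘ₗ (K.d p (c.next p)).hom = r • (K.d p (c.next p)).hom := by
  classical
  let k := P.ResidueField
  let d := (K.d p (c.next p)).hom
  let i := (cyK K p).subtype
  have hker : LinearMap.ker (d.baseChange k) ≤
      Submodule.span k (Set.range fun z : cyK K p => (1 : k) ⊗ₜ[A] (z.1 : K.X p)) := by
    intro x hx
    have hx' : d.rTensor k (TensorProduct.comm A k (K.X p) x) = 0 := by
      rw [LinearMap.rTensor_comm]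
      exact (congrArg (TensorProduct.comm A k (K.X (c.next p))) hx).trans (map_zero _)
    obtain ⟨s, hs⟩ := (surjective_muT_iff K p (ModuleCat.of A k)).1 h _ hx'
    have hx2 : x = (TensorProduct.comm A k (K.X p)).symm (i.rTensor k s) := by
      rw [show i.rTensor k s = TensorProduct.comm A k (K.X p) x from hs, LinearEquiv.symm_apply_apply]
    rw [hx2]
    clear hx2 hs hx' hx x
    induction s using TensorProduct.induction_on with
    | zero => simp
    | add a b ha hb => simp only [map_add]; exact add_mem ha hb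
    | tmul z a =>
      rw [LinearMap.rTensor_tmul, TensorProduct.comm_symm_tmul,
        show (a : k) ⊗ₜ[A] i z = a • ((1 : k) ⊗ₜ[A] i z) by rw [TensorProduct.smul_tmul', smul_eq_mul, mul_one]]
      exact Submodule.smul_mem _ _ (Submodule.subset_span ⟨z, rfl⟩)
  have heq : Submodule.span k (Set.range fun z : cyK K p => (1 : k) ⊗ₜ[A] (z.1 : K.X p)) =
      LinearMap.ker (d.baseChange k) := le_antisymm (Submodule.span_le.2 (by
    rintro _ ⟨z, rfl⟩
    show d.baseChange k ((1 : k) ⊗ₜ[A] (z.1 : K.X p)) = 0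
    rw [LinearMap.baseChange_tmul, show d z.1 = 0 from z.2, TensorProduct.tmul_zero])) hker
  obtain ⟨t, ht, hspan⟩ := Submodule.fg_span_iff_fg_span_finset_subset
    (Set.range fun z : cyK K p => (1 : k) ⊗ₜ[A] (z.1 : K.X p)) |>.1
    (heq ▸ IsNoetherian.noetherian (LinearMap.ker (d.baseChange k)))
  have hz : ∀ j : t, ∃ z : cyK K p, (1 : k) ⊗ₜ[A] (z.1 : K.X p) = j.1 := fun j => ht j.2
  choose z hz using hz
  let φ : (t → A) →ₗ[A] K.X p := Fintype.linearCombination A fun j => (z j).1
  have hdφ : d ∘ₗ φ = 0 := by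
    refine LinearMap.ext fun v => ?_
    show d (Fintype.linearCombination A (fun j => (z j).1) v) = 0
    rw [Fintype.linearCombination_apply, map_sum]
    exact Finset.sum_eq_zero fun j _ => by rw [map_smul, show d (z j).1 = 0 from (z j).2, smul_zero]
  have hex : Function.Exact (φ.baseChange k) (d.baseChange k) := by
    refine LinearMap.exact_iff.2 (le_antisymm ?_ ?_)
    · rw [← heq, hspan, Submodule.span_le]
      intro y hy
      refine ⟨(1 : k) ⊗ₜ Pi.single ⟨y, hy⟩ 1, ?_⟩
      rw [LinearMap.baseChange_tmul, Fintype.linearCombination_apply_single, one_smul]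
      exact hz ⟨y, hy⟩
    · rintro _ ⟨v, rfl⟩
      show (d.baseChange k) (φ.baseChange k v) = 0
      rw [← LinearMap.comp_apply, ← LinearMap.baseChange_comp, hdφ, LinearMap.baseChange_zero,
        LinearMap.zero_apply]
  obtain ⟨r, hr, -, H, hH⟩ := exists_local_homotopy φ d P hdφ hex
  exact ⟨r, H, hr, hH⟩

end Groth.Agent.PBC
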