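import Groth.Agent.QCoh.CechBC
import Groth.Agent.PBC.Mu
import Groth.Agent.FComplLib.AffMod

/-!
# Global sections inside the Cech complex, and their base change
-/

set_option autoImplicit false
set_option linter.style.haveILetI false
set_option backward.isDefEq.respectTransparency false
set_option backward.isDefEq.respectTransparency.types false
set_option maxHeartbeats 1000000

universe u

open CategoryTheory CategoryTheory.Limits AlgebraicGeometry TopologicalSpace Opposite
open scoped TensorProduct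

noncomputable section

namespace Groth.Agent.PBC

open Groth.Agent Groth.Agent.QCoh

theorem mem_cyK_iff {A : Type u} [CommRing A] {ι : Type} {c : ComplexShape ι}
    (K : HomologicalComplex (ModuleCat.{u} A) c) {p q : ι} (h : c.next p = q) (z : K.X p) :
    z ∈ cyK K p ↔ (K.d p q).hom z = 0 := by
  subst h; rfl

theorem mem_cyT_iff {A : Type u} [CommRing A] {ι : Type} {c : ComplexShape ι}
    (K : HomologicalComplex (ModuleCat.{u} A) c) {p q : ι} (h : c.next p = q) (M : ModuleCat.{u} A)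
    (w : K.X p ⊗[A] M) : w ∈ cyT K p M ↔ (K.d p q).hom.rTensor M w = 0 := by
  subst h; rfl

section Sections

variable {A : Type u} [CommRing A] {X : Scheme.{u}} (ρ : A →+* Coh.Γtop X) {ι : Type u} (U : ι → X.Opens)
  (F : X.Modules)

/-- Global sections as degree zero cochains. -/
def augLin : letI := secModule ρ F (⊤ : X.Opens); Γ(F, (⊤ : X.Opens)) →ₗ[A] (cxMod ρ U F).X 0 :=
  letI := secModule ρ F (⊤ : X.Opens)
  { toFun := fun s => ⟨fun _ W => F.presheaf.map (homOfLE (le_top : W.1 ≤ ⊤)).op s,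
      fun _ W W' _ _ i => QCoh.map_map _ _ _⟩
    map_add' := fun s t => Subtype.ext <| funext₂ fun _ W =>
      map_add (F.presheaf.map (homOfLE (le_top : W.1 ≤ ⊤)).op).hom s t
    map_smul' := fun a s => Subtype.ext <| funext₂ fun _ W =>
      (QCoh.map_smul' (M := F) (homOfLE (le_top : W.1 ≤ ⊤)) _ _).trans
        (congrArg (· • F.presheaf.map (homOfLE (le_top : W.1 ≤ ⊤)).op s) (QCoh.ringMap_map _ _ _)) }

theorem augLin_injective (hcov : ⨆ i, U i = ⊤) : Function.Injective (augLin ρ U F) := fun s t h => by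
  refine TopCat.Sheaf.eq_of_locally_eq' ⟨F.presheaf, F.isSheaf⟩ U ⊤ (fun i => homOfLE le_top) hcov.ge s t
    fun i => ?_
  exact congrFun (congrFun (congrArg Subtype.val h) (fun _ => i)) ⟨U i, fun _ => le_rfl⟩

theorem d_augLin (s : Γ(F, (⊤ : X.Opens))) : ((cxMod ρ U F).d 0 1).hom (augLin ρ U F s) = 0 := by
  show (Ab.natCx F.presheaf U).d 0 1 (augLin ρ U F s) = 0
  rw [Ab.natCx_d]
  refine Subtype.ext <| funext₂ fun σ W => ?_
  show ∑ a : Fin 2, (-1 : ℤ) ^ (a : ℕ) • F.presheaf.map (homOfLE (le_top : W.1 ≤ ⊤)).op s = 0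
  simp [Fin.sum_univ_two]

theorem exists_augLin (hcov : ⨆ i, U i = ⊤) (c : (cxMod ρ U F).X 0) (hc : ((cxMod ρ U F).d 0 1).hom c = 0) :
    ∃ s, augLin ρ U F s = c := by
  let sf : ∀ i, Γ(F, U i) := fun i => c.1 (fun _ => i) ⟨U i, fun _ => le_rfl⟩
  have hcompat : TopCat.Presheaf.IsCompatible F.presheaf U sf := fun i j => by
    have hd : ((Ab.natCx F.presheaf U).d 0 1 c : Ab.natCochains F.presheaf U 2) = 0 := hc
    rw [Ab.natCx_d] at hd
    let W : X.Opens := U i ⊓ U j
    let σ : Fin 2 → ι := ![i, j]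
    have hle : Ab.Le U σ W := by
      intro a
      fin_cases a
      · exact inf_le_left
      · exact inf_le_right
    have h2 : ∑ a : Fin 2, (-1 : ℤ) ^ (a : ℕ) •
        (show Γ(F, W) from c.1 (fun b => σ (a.succAbove b)) ⟨W, fun b => hle (a.succAbove b)⟩) = 0 :=
      congrFun (congrFun (congrArg Subtype.val hd) σ) ⟨W, hle⟩
    have hl : ∀ (k : ι) (τ : Fin 1 → ι) (hτ : Ab.Le U τ W), τ = (fun _ => k) → ∀ hk : W ≤ U k,
        c.1 τ ⟨W, hτ⟩ = F.presheaf.map (homOfLE hk).op (sf k) := by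
      rintro k τ hτ rfl hk
      exact (c.2 (fun _ => k) (U k) W (fun _ => le_rfl) hτ (homOfLE hk)).symm
    rw [Fin.sum_univ_two, hl j _ _ (funext fun b => by fin_cases b; rfl) inf_le_right,
      hl i _ _ (funext fun b => by fin_cases b; rfl) inf_le_left] at h2
    simp only [Fin.val_zero, Fin.val_one, pow_zero, pow_one, one_smul, neg_smul, ← sub_eq_add_neg,
      sub_eq_zero] at h2
    exact h2.symm
  obtain ⟨s, hs, -⟩ := TopCat.Sheaf.existsUnique_gluing' ⟨F.presheaf, F.isSheaf⟩ U ⊤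
    (fun i => homOfLE le_top) hcov.ge sf hcompat
  refine ⟨s, Subtype.ext <| funext₂ fun σ W => ?_⟩
  obtain ⟨i, rfl⟩ : ∃ i, σ = fun _ => i := ⟨σ 0, funext fun b => congrArg σ (Fin.eq_zero b)⟩
  show F.presheaf.map (homOfLE (le_top : W.1 ≤ ⊤)).op s = _
  rw [← c.2 (fun _ => i) (U i) W.1 (fun _ => le_rfl) W.2 (homOfLE (W.2 0))]
  show _ = F.presheaf.map (homOfLE (W.2 0)).op (sf i)
  rw [← hs i]
  exact (QCoh.map_map _ _ _).symm

theorem next_zero : (ComplexShape.up ℕ).next 0 = 1 := by simp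

/-- Global sections as cycles. -/
def augEquiv (hcov : ⨆ i, U i = ⊤) :
    letI := secModule ρ F (⊤ : X.Opens); Γ(F, (⊤ : X.Opens)) ≃ₗ[A] cyK (cxMod ρ U F) 0 :=
  letI := secModule ρ F (⊤ : X.Opens)
  LinearEquiv.ofBijective ((augLin ρ U F).codRestrict _ fun s => (mem_cyK_iff _ next_zero _).2 (d_augLin ρ U F s))
    ⟨fun s t h => augLin_injective ρ U F hcov (congrArg Subtype.val h), fun z => by
      obtain ⟨s, hs⟩ := exists_augLin ρ U F hcov z.1 ((mem_cyK_iff _ next_zero _).1 z.2)
      exact ⟨s, Subtype.ext hs⟩⟩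

end Sections

section BaseChange

variable {A B : Type u} [CommRing A] [CommRing B] (φ : A →+* B) {X X' : Scheme.{u}}
  [X.Over (Spec (CommRingCat.of A))] [X'.Over (Spec (CommRingCat.of B))] (g : X' ⟶ X)
  (h : IsPullback g (X' ↘ Spec (CommRingCat.of B)) (X ↘ Spec (CommRingCat.of A))
    (Spec.map (CommRingCat.ofHom φ)))
  {F : X.Modules} (hF : Coh.IsQCoh F) {ι : Type u} [Finite ι] (U : ι → X.Opens)
  (hU : ∀ {p : ℕ} (σ : Fin (p + 1) → ι), IsAffineOpen (⨅ a, U (σ a))) (hcov : ⨆ i, U i = ⊤)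

/-- The natural map `B ⊗ Γ(X, F) → Γ(X', g^*F)`. -/
def sectionsBC :
    letI := φ.toAlgebra
    letI := secModule (Coh.toGlobal (X ↘ Spec (CommRingCat.of A))) F (⊤ : X.Opens)
    letI := secModule (Coh.toGlobal (X' ↘ Spec (CommRingCat.of B))) ((Scheme.Modules.pullback g).obj F) (⊤ : X'.Opens)
    B ⊗[A] Γ(F, (⊤ : X.Opens)) →ₗ[B] Γ((Scheme.Modules.pullback g).obj F, (⊤ : X'.Opens)) :=
  letI := φ.toAlgebra
  letI := secModule (Coh.toGlobal (X ↘ Spec (CommRingCat.of A))) F (⊤ : X.Opens)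
  letI := secModule (Coh.toGlobal (X' ↘ Spec (CommRingCat.of B))) ((Scheme.Modules.pullback g).obj F) (⊤ : X'.Opens)
  letI := secModule ((Coh.toGlobal (X' ↘ Spec (CommRingCat.of B))).comp (algebraMap A B))
    ((Scheme.Modules.pullback g).obj F) (⊤ : X'.Opens)
  haveI : IsScalarTower A B Γ((Scheme.Modules.pullback g).obj F, (⊤ : X'.Opens)) :=
    .of_algebraMap_smul fun _ _ => rfl
  let η : F ⟶ (Scheme.Modules.pushforward g).obj ((Scheme.Modules.pullback g).obj F) :=
    (Scheme.Modules.pullbackPushforwardAdjunction g).unit.app F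
  (secLin (M := F) (M' := (Scheme.Modules.pullback g).obj F) (Coh.toGlobal (X ↘ Spec (CommRingCat.of A))) (Coh.toGlobal (X' ↘ Spec (CommRingCat.of B))) g η
    (QCoh.toGlobal_comm (X ↘ Spec (CommRingCat.of A)) (X' ↘ Spec (CommRingCat.of B)) g (A := A) (B := B) h.w)
    ⊤ ⊤ le_top).liftBaseChange B

include hF hU hcov in
/-- Base change of sections is governed by the degree zero comparison map of the Cech complex. -/
theorem sectionsBC_iff :
    (Function.Bijective (muT (cechA (A := A) F U) 0 ((ModuleCat.restrictScalars φ).obj (ModuleCat.of B B))) →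
      Function.Bijective (sectionsBC φ g h (F := F))) ∧
    (Function.Surjective (sectionsBC φ g h (F := F)) →
      Function.Surjective (muT (cechA (A := A) F U) 0 ((ModuleCat.restrictScalars φ).obj (ModuleCat.of B B)))) := by
  letI alg : Algebra A B := φ.toAlgebra
  let pA := X ↘ Spec (CommRingCat.of A)
  let pB := X' ↘ Spec (CommRingCat.of B)
  let ρ := Coh.toGlobal pA
  let ρ' := Coh.toGlobal pB
  let F' := (Scheme.Modules.pullback g).obj F
  let η : F ⟶ (Scheme.Modules.pushforward g).obj F' := (Scheme.Modules.pullbackPushforwardAdjunction g).unit.app F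
  have hρ := toGlobal_comm pA pB g (A := A) (B := B) h.w
  have hbc : IsBC ρ ρ' U g η hρ := by
    intro p σ W hW hle
    obtain rfl : W = g ⁻¹ᵁ ⨅ a, U (σ a) := by rw [hW, preimage_iInf_fin]
    exact isAffineBC_of_isPullback h hF _ (hU σ)
  have hcov' : ⨆ i, g ⁻¹ᵁ U i = ⊤ := by rw [← Scheme.Hom.preimage_iSup, hcov]; rfl
  letI := secModule ρ F (⊤ : X.Opens)
  letI := secModule ρ' F' (⊤ : X'.Opens)
  let M : ModuleCat.{u} A := (ModuleCat.restrictScalars φ).obj (ModuleCat.of B B)
  let K := cechA (A := A) F U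
  let K' := cechA (A := B) F' (fun i => g ⁻¹ᵁ U i)
  let e := augEquiv ρ U F hcov
  let r := augLin ρ U F
  let r' := augLin ρ' (fun i => g ⁻¹ᵁ U i) F'
  let f := cxModMap ρ ρ' U g η hρ
  let α : ∀ i, B ⊗[A] K.X i →ₗ[B] K'.X i := fun i => (adjunct (f.f i)).hom
  have hα : ∀ i, Function.Bijective (α i) := fun i => bijective_adjunct_cxModMap ρ ρ' U g η hρ hbc i
  let L := sectionsBC φ g h (F := F)
  have hL : ∀ t, α 0 (r.baseChange B t) = r' (L t) := by
    intro t
    induction t using TensorProduct.induction_on with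
    | zero => simp
    | add a b ha hb => simp only [map_add, ha, hb]
    | tmul b x =>
      rw [LinearMap.baseChange_tmul]
      refine (adjunct_tmul (f.f 0) b (r x)).trans ?_
      have h1 : (show K'.X 0 from f.f 0 (r x)) = r' (secMap g η (V := (⊤ : X.Opens)) (W := (⊤ : X'.Opens)) le_top x) :=
        Subtype.ext <| funext₂ fun σ W =>
          (secMap_map g η _ _ _).trans (map_secMap g η (V := (⊤ : X.Opens)) le_top (homOfLE le_top) x).symm
      refine (congrArg (b • ·) h1).trans ?_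
      exact (map_smul r' b _).symm
  have hd : ∀ u, (K'.d 0 1).hom (α 0 u) = α 1 ((K.d 0 1).hom.baseChange B u) := by
    intro u
    induction u using TensorProduct.induction_on with
    | zero => simp
    | add a b ha hb => simp only [map_add, ha, hb]
    | tmul b x =>
      rw [LinearMap.baseChange_tmul]
      refine (congrArg (K'.d 0 1).hom (adjunct_tmul (f.f 0) b x)).trans ?_
      refine ((K'.d 0 1).hom.map_smul b _).trans ?_
      refine Eq.trans ?_ (adjunct_tmul (f.f 1) b ((K.d 0 1).hom x)).symm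
      exact congrArg (b • ·) (ConcreteCategory.congr_hom (f.comm 0 1) x)
  let c0 : B ⊗[A] Γ(F, (⊤ : X.Opens)) ≃ₗ[A] cyK K 0 ⊗[A] M :=
    (TensorProduct.comm A B Γ(F, (⊤ : X.Opens))).trans
      (TensorProduct.congr e (LinearEquiv.refl A M : B ≃ₗ[A] M))
  let cm : B ⊗[A] K.X 0 ≃ₗ[A] K.X 0 ⊗[A] M := TensorProduct.comm A B (K.X 0)
  let cm1 : B ⊗[A] K.X 1 ≃ₗ[A] K.X 1 ⊗[A] M := TensorProduct.comm A B (K.X 1)
  have hi : ∀ t, (cyK K 0).subtype.rTensor M (c0 t) = cm (r.baseChange B t) := by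
    intro t
    induction t using TensorProduct.induction_on with
    | zero => simp
    | add a b ha hb => simp only [map_add, ha, hb]
    | tmul b x => rfl
  have hδ : ∀ u, (K.d 0 1).hom.rTensor M (cm u) = cm1 ((K.d 0 1).hom.baseChange B u) := by
    intro u
    induction u using TensorProduct.induction_on with
    | zero => simp
    | add a b ha hb => simp only [map_add, ha, hb]
    | tmul b x => rfl
  have hd0 : K.d ((ComplexShape.up ℕ).prev 0) 0 = 0 := K.shape _ _ (by simp)
  have hker : ∀ u, cm u ∈ cyT K 0 M ↔ (K'.d 0 1).hom (α 0 u) = 0 := fun u => by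
    rw [mem_cyT_iff K next_zero, hδ, hd, map_eq_zero_iff _ cm1.injective, map_eq_zero_iff _ (hα 1).1]
  constructor
  · intro hμ
    constructor
    · rw [injective_iff_map_eq_zero]
      intro t ht
      have hinj := injective_rTensor_of_muT K 0 M hd0 hμ.1
      have h1 : r.baseChange B t = 0 := (hα 0).1 ((hL t).trans (by rw [ht, map_zero, map_zero]))
      exact c0.injective ((hinj ((hi t).trans (by rw [h1, map_zero, map_zero]))).trans (map_zero _).symm)
    · intro s
      obtain ⟨u, hu⟩ := (hα 0).2 (r' s)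
      obtain ⟨v, hv⟩ := (surjective_muT_iff K 0 M).1 hμ.2 (cm u) ((hker u).2 (by rw [hu]; exact d_augLin ρ' _ F' s))
      obtain ⟨t, rfl⟩ := c0.surjective v
      rw [hi] at hv
      exact ⟨t, augLin_injective ρ' _ F' hcov' ((hL t).symm.trans ((congrArg (α 0) (cm.injective hv)).trans hu))⟩
  · intro hs
    refine (surjective_muT_iff K 0 M).2 fun w hw => ?_
    obtain ⟨u, rfl⟩ := cm.surjective w
    obtain ⟨s, hs'⟩ := exists_augLin ρ' (fun i => g ⁻¹ᵁ U i) F' hcov' _ ((hker u).1 hw)
    obtain ⟨t, rfl⟩ := hs s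
    exact ⟨c0 t, (hi t).trans (congrArg cm ((hα 0).1 ((hL t).trans hs')))⟩

end BaseChange

end Groth.Agent.PBC
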