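import Groth.Agent.PBC.Betti

/-!
# Finite free models over any affine open of the base
-/

set_option autoImplicit false
set_option linter.style.haveILetI false
set_option backward.isDefEq.respectTransparency false
set_option backward.isDefEq.respectTransparency.types false
set_option maxHeartbeats 1000000

universe u

open CategoryTheory CategoryTheory.Limits AlgebraicGeometry TopologicalSpace
open scoped TensorProduct

noncomputable section

namespace Groth.Agent.PBC

open Groth.Agent Groth.Agent.QCoh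

/-- Base change of complexes along a composite. -/
def bcCxComp {A B C : Type u} [CommRing A] [CommRing B] [CommRing C] (φ : A →+* B) (ψ : B →+* C)
    (P : ChainComplex (ModuleCat.{u} A) ℤ) :
    CohIII.bcCx (ψ.comp φ) P ≅ CohIII.bcCx ψ (CohIII.bcCx φ P) :=
  HomologicalComplex.Hom.isoOfComponents (fun n => (ModuleCat.extendScalarsComp φ ψ).app (P.X n))
    (fun a b _ => ((ModuleCat.extendScalarsComp φ ψ).hom.naturality (P.d a b)).symm)

variable {X S : Scheme.{u}} (f : X ⟶ S) (F : X.Modules) {V : S.Opens} (hV : IsAffineOpen V)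

/-- A complex computing the cohomology of `F` over all affine schemes over `V`. -/
def IsUnivModel (P : ChainComplex (ModuleCat.{u} Γ(S, V)) ℤ) : Prop :=
  (∀ i, Module.Finite Γ(S, V) (P.X i)) ∧ (∀ i, Module.Free Γ(S, V) (P.X i)) ∧
  (∃ c : ℤ, ∀ i, i < c → IsZero (P.X i)) ∧
  (∀ q : ℤ, 0 < q → ∀ N : ModuleCat.{u} Γ(S, V), IsZero (CohIII.T P q N)) ∧
  ∀ (B : Type u) [CommRing B] (ψ : Γ(S, V) →+* B) (X' : Scheme.{u}) (g : X' ⟶ (f ⁻¹ᵁ V : Scheme.{u}))
    (pB : X' ⟶ Spec (CommRingCat.of B)),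
    IsPullback g pB (overSpec f hV) (Spec.map (CommRingCat.ofHom ψ)) → ∀ p : ℕ,
    letI := modHH (Coh.toGlobal pB) ((Scheme.Modules.pullback g).obj (F.restrict (f ⁻¹ᵁ V).ι)) p
    Nonempty (Coh.HH X' ((Scheme.Modules.pullback g).obj (F.restrict (f ⁻¹ᵁ V).ι)) p ≃ₗ[B]
      (CohIII.bcCx ψ P).homology (-(p : ℤ)))

/-- Universal models exist for flat modules of finite presentation over proper morphisms. -/
theorem exists_isUnivModel [IsProper f] [LocallyOfFinitePresentation f] (hF : CohB1.IsFP F)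
    (hfl : FlatMod.IsFlatOver f F) :
    ∃ P : ChainComplex (ModuleCat.{u} Γ(S, V)) ℤ, IsUnivModel f F hV P := by
  haveI : IsAffine (V : Scheme.{u}) := hV
  let U : X.Opens := f ⁻¹ᵁ V
  obtain ⟨S₁, X₁, ρ, f₁, q, F₁, hN, hA, hp, hsq, hF₁, hfl₁, ⟨θ⟩⟩ :=
    exists_flat_mod_model (f ∣_ V) ((Scheme.Modules.pullback U.ι).obj F)
      (ModStLib.isFP_pullback _ hF) (fun x =>
        (FibFlatMod.flatAt_openImmersion (f := f) (f' := f ∣_ V) (jX := U.ι) (jY := V.ι)
          (morphismRestrict_ι f V) F x).2 (hfl _))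
  haveI := hN; haveI := hA; haveI := hp
  let A : Type u := Γ(S₁, ⊤)
  letI : X₁.Over (Spec (CommRingCat.of A)) := ⟨f₁ ≫ S₁.isoSpec.hom⟩
  haveI : IsProper (X₁ ↘ Spec (CommRingCat.of A)) := inferInstanceAs (IsProper (f₁ ≫ S₁.isoSpec.hom))
  haveI : IsNoetherianRing A := IsLocallyNoetherian.component_noetherian ⟨⊤, isAffineOpen_top S₁⟩
  have hfl₁' : FlatMod.IsFlatOver (X₁ ↘ Spec (CommRingCat.of A)) F₁ := fun x =>
    MorLib.FlatBC.isFlatOverAt_baseChange f₁ (f₁ ≫ S₁.isoSpec.hom) (𝟙 X₁) S₁.isoSpec.inv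
      (IsPullback.of_horiz_isIso ⟨by simp⟩) F₁ x (hfl₁ _) |> fun h =>
      GrFlat5.isFlatOverAt_of_iso _ ((Scheme.Modules.pullbackId X₁).app F₁) x h
  obtain ⟨P, hP⟩ := exists_isBCModel F₁ hF₁ hfl₁'
  let φc : CommRingCat.of A ⟶ Γ(S, V) := Spec.preimage (hV.isoSpec.inv ≫ ρ ≫ S₁.isoSpec.hom)
  let φ : A →+* Γ(S, V) := φc.hom
  have hφ : Spec.map (CommRingCat.ofHom φ) = hV.isoSpec.inv ≫ ρ ≫ S₁.isoSpec.hom := by
    show Spec.map φc = _
    exact Spec.map_preimage _
  have hsq' : IsPullback q (overSpec f hV) (X₁ ↘ Spec (CommRingCat.of A)) (Spec.map (CommRingCat.ofHom φ)) :=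
    hsq.of_iso (Iso.refl _) (Iso.refl _) hV.isoSpec S₁.isoSpec (by simp) (by simp [overSpec])
      (by simp; rfl) (by rw [hφ]; simp)
  refine ⟨CohIII.bcCx φ P, finite_bcCx_X_aux P φ hP.1, fun i => ?_, ?_, fun n hn N => ?_,
    fun B _ ψ X' g pB h p => ?_⟩
  · letI := φ.toAlgebra
    have := hP.2.1 i
    exact inferInstanceAs (Module.Free Γ(S, V) (Γ(S, V) ⊗[A] P.X i))
  · obtain ⟨c, hc⟩ := hP.2.2.1
    exact ⟨c, fun i hi => Functor.map_isZero (ModuleCat.extendScalars φ) (hc i hi)⟩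
  · obtain ⟨e⟩ := nonempty_bcT_iso P φ n
    haveI : Subsingleton ((CohIII.TFun (CohIII.bcCx φ P) n).obj N) :=
      AddCommGrpCat.subsingleton_of_isZero ((Functor.map_isZero (forget₂ (ModuleCat.{u} A) AddCommGrpCat.{u})
        (hP.2.2.2.1 n hn ((ModuleCat.restrictScalars φ).obj N))).of_iso (e.app N))
    exact @ModuleCat.isZero_of_subsingleton _ _ ((CohIII.TFun (CohIII.bcCx φ P) n).obj N) ‹_›
  · have hbig : IsPullback (g ≫ q) pB (X₁ ↘ Spec (CommRingCat.of A))
        (Spec.map (CommRingCat.ofHom (ψ.comp φ))) := by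
      rw [show CommRingCat.ofHom (ψ.comp φ) = CommRingCat.ofHom φ ≫ CommRingCat.ofHom ψ from rfl, Spec.map_comp]
      exact h.paste_horiz hsq'
    obtain ⟨e₁⟩ := hP.2.2.2.2.2 B (ψ.comp φ) X' (g ≫ q) pB hbig p
    let eF : (Scheme.Modules.pullback (g ≫ q)).obj F₁ ≅
        (Scheme.Modules.pullback g).obj (F.restrict U.ι) :=
      ((Scheme.Modules.pullbackComp g q).app F₁).symm ≪≫ (Scheme.Modules.pullback g).mapIso
        (θ ≪≫ ((Scheme.Modules.restrictFunctorIsoPullback U.ι).app F).symm)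
    letI := modHH (Coh.toGlobal pB) ((Scheme.Modules.pullback g).obj (F.restrict U.ι)) p
    exact ⟨(HHcongr (Coh.toGlobal pB) eF p).symm.trans (e₁.trans
      ((HomologicalComplex.homologyFunctor _ _ (-(p : ℤ))).mapIso (bcCxComp φ ψ P)).toLinearEquiv)⟩

/-- Local models exist over any base. -/
theorem exists_isLocalModel [IsProper f] [LocallyOfFinitePresentation f] [HasInjectiveResolutions X.Modules]
    (hF : CohB1.IsFP F) (hfl : FlatMod.IsFlatOver f F) :
    ∃ P : ChainComplex (ModuleCat.{u} Γ(S, V)) ℤ, IsLocalModel f F hV P := by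
  obtain ⟨P, hP⟩ := exists_isUnivModel f F hV hF hfl
  refine ⟨P, hP.1, hP.2.1, hP.2.2.1, hP.2.2.2.1, fun p => ?_, fun p y hy => ?_⟩
  · obtain ⟨e₁⟩ := nonempty_sections_HH (f := f) (QCoh.isQCoh_of_isFP hF) hV p
    rw [← toGlobal_overSpec f hV] at e₁
    obtain ⟨e₂⟩ := hP.2.2.2.2 Γ(S, V) (RingHom.id _) (f ⁻¹ᵁ V : Scheme.{u}) (𝟙 _) (overSpec f hV)
      (by
        haveI : IsIso (Spec.map (CommRingCat.ofHom (RingHom.id Γ(S, V)))) :=
          inferInstanceAs (IsIso (Spec.map (𝟙 Γ(S, V))))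
        exact IsPullback.of_horiz_isIso ⟨by
          show 𝟙 _ ≫ overSpec f hV = overSpec f hV ≫ Spec.map (𝟙 Γ(S, V))
          rw [Spec.map_id, Category.comp_id, Category.id_comp]⟩) p
    let eid : CohIII.bcCx (RingHom.id Γ(S, V)) P ≅ P :=
      HomologicalComplex.Hom.isoOfComponents (fun n => (ModuleCat.extendScalarsId Γ(S, V)).app (P.X n))
        fun a b _ => ((ModuleCat.extendScalarsId Γ(S, V)).hom.naturality (P.d a b)).symm
    exact ⟨e₁.trans (((HHcongr (Coh.toGlobal (overSpec f hV))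
      ((Scheme.Modules.pullbackId _).app (F.restrict (f ⁻¹ᵁ V).ι)) p).symm).trans
      (e₂.trans ((HomologicalComplex.homologyFunctor _ _ (-(p : ℤ))).mapIso eid).toLinearEquiv))⟩
  · let φ := evalV y hy
    have hpb := isPullback_overSpec (f := f) hV
    let eR : (Scheme.Modules.pullback (f ⁻¹ᵁ V).ι).obj F ≅ F.restrict (f ⁻¹ᵁ V).ι :=
      ((Scheme.Modules.restrictFunctorIsoPullback _).app F).symm
    have hφ : Spec.map (CommRingCat.ofHom φ) ≫ hV.fromSpec = S.fromSpecResidueField y := by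
      show Spec.map (S.presheaf.germ V y hy ≫ S.residue y) ≫ _ = _
      rw [Spec.map_comp, Category.assoc, Scheme.fromSpecResidueField]
      exact congrArg (Spec.map (S.residue y) ≫ ·) (hV.fromSpecStalk_eq_fromSpecStalk hy)
    have hbig : IsPullback (f.fiberι y) (f.fiberToSpecResidueField y) f
        (Spec.map (CommRingCat.ofHom φ) ≫ hV.fromSpec) := by
      rw [hφ]; exact IsPullback.of_hasPullback _ _
    let g : f.fiber y ⟶ (f ⁻¹ᵁ V : Scheme.{u}) :=
      hpb.lift (f.fiberι y) (f.fiberToSpecResidueField y ≫ Spec.map (CommRingCat.ofHom φ))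
        (by rw [Category.assoc]; exact hbig.w)
    have hg : g ≫ (f ⁻¹ᵁ V).ι = f.fiberι y := hpb.lift_fst _ _ _
    have hsq : IsPullback g (f.fiberToSpecResidueField y) (overSpec f hV) (Spec.map (CommRingCat.ofHom φ)) :=
      IsPullback.of_right (by rw [hg]; exact hbig) (hpb.lift_snd _ _ _) hpb
    obtain ⟨e₂⟩ := hP.2.2.2.2 (S.residueField y) φ (f.fiber y) g (f.fiberToSpecResidueField y) hsq p
    let eF : (Scheme.Modules.pullback g).obj (F.restrict (f ⁻¹ᵁ V).ι) ≅ CohIII.fiberMod f F y :=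
      (Scheme.Modules.pullback g).mapIso eR.symm ≪≫ (Scheme.Modules.pullbackComp g _).app F ≪≫
        (Scheme.Modules.pullbackCongr hg).app F
    let e : CohIII.fiberH f F y p ≃ₗ[S.residueField y] ((CohIII.bcCx φ P).homology (-(p : ℤ))) :=
      (HHcongr (A := S.residueField y)
        (Coh.toGlobal (A := S.residueField y) (f.fiberToSpecResidueField y)) eF p).symm.trans e₂
    haveI := finite_homology_bc φ P hP.1 (-(p : ℤ))
    exact ⟨(LinearEquiv.finrank_eq e).trans (finrank_bc_eq_dRank φ P _ (ker_evalV hV hy) _),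
      Module.Finite.equiv e.symm⟩

end Groth.Agent.PBC
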