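import Groth.Agent.PBC.Aug
import Groth.Agent.PBC.Bc0Comp
import Groth.Agent.PBC.LocalModel
import Groth.Agent.PBC.Vanish

/-!
# Degree zero base change over an affine base
-/

set_option autoImplicit false
set_option linter.style.haveILetI false
set_option backward.isDefEq.respectTransparency false
set_option backward.isDefEq.respectTransparency.types false
set_option maxHeartbeats 1000000

universe u

open CategoryTheory CategoryTheory.Limits AlgebraicGeometry TopologicalSpace Opposite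
open scoped TensorProduct

noncomputable section

namespace Groth.Agent.PBC

open Groth.Agent Groth.Agent.QCoh

section Model

variable {A : Type u} [CommRing A] {X : Scheme.{u}} [X.Over (Spec (CommRingCat.of A))]

/-- A finite free complex whose `T` functors are `M ↦ H^p(X, F ⊗ M)`. -/
def IsNatModel (F : X.Modules) (P : ChainComplex (ModuleCat.{u} A) ℤ) : Prop :=
  (∀ i, Module.Finite A (P.X i)) ∧ (∀ i, Module.Free A (P.X i)) ∧
  (∀ q : ℤ, 0 < q → ∀ M : ModuleCat.{u} A, IsZero (CohIII.T P q M)) ∧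
  ∀ p : ℕ, Nonempty (CohIII.TFun P (-(p : ℤ)) ⋙ forget₂ (ModuleCat.{u} A) AddCommGrpCat.{u} ≅
    CohIII.tensorAFunctor A F ⋙ CohIII.HAb X p)

theorem exists_isNatModel [IsProper (X ↘ Spec (CommRingCat.of A))]
    [LocallyOfFinitePresentation (X ↘ Spec (CommRingCat.of A))] {F : X.Modules} (hF : CohB1.IsFP F)
    (hfl : FlatMod.IsFlatOver (X ↘ Spec (CommRingCat.of A)) F) :
    ∃ P : ChainComplex (ModuleCat.{u} A) ℤ, IsNatModel F P := by
  obtain ⟨S₁, X₁, ρ, f₁, q, F₁, hN, hA, hp, hsq, hF₁, hfl₁, ⟨θ⟩⟩ :=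
    exists_flat_mod_model (X ↘ Spec (CommRingCat.of A)) F hF hfl
  haveI := hN; haveI := hA; haveI := hp
  let A₁ : Type u := Γ(S₁, ⊤)
  letI : X₁.Over (Spec (CommRingCat.of A₁)) := ⟨f₁ ≫ S₁.isoSpec.hom⟩
  haveI : IsProper (X₁ ↘ Spec (CommRingCat.of A₁)) := inferInstanceAs (IsProper (f₁ ≫ S₁.isoSpec.hom))
  haveI : CompactSpace X₁ := QuasiCompact.compactSpace_of_compactSpace (X₁ ↘ Spec (CommRingCat.of A₁))
  haveI : X₁.IsSeparated := ⟨by
    rw [← Limits.terminal.comp_from (X₁ ↘ Spec (CommRingCat.of A₁))]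
    infer_instance⟩
  haveI : IsNoetherianRing A₁ := IsLocallyNoetherian.component_noetherian ⟨⊤, isAffineOpen_top S₁⟩
  have hfl₁' : FlatMod.IsFlatOver (X₁ ↘ Spec (CommRingCat.of A₁)) F₁ := fun x =>
    MorLib.FlatBC.isFlatOverAt_baseChange f₁ (f₁ ≫ S₁.isoSpec.hom) (𝟙 X₁) S₁.isoSpec.inv
      (IsPullback.of_horiz_isIso ⟨by simp⟩) F₁ x (hfl₁ _) |> fun h =>
      GrFlat5.isFlatOverAt_of_iso _ ((Scheme.Modules.pullbackId X₁).app F₁) x h
  obtain ⟨P, hP⟩ := exists_isBCModel F₁ hF₁ hfl₁'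
  let φc : CommRingCat.of A₁ ⟶ CommRingCat.of A := Spec.preimage (ρ ≫ S₁.isoSpec.hom)
  let φ : A₁ →+* A := φc.hom
  have hφ : Spec.map (CommRingCat.ofHom φ) = ρ ≫ S₁.isoSpec.hom := Spec.map_preimage _
  have hsq' : IsPullback q (X ↘ Spec (CommRingCat.of A)) (X₁ ↘ Spec (CommRingCat.of A₁))
      (Spec.map (CommRingCat.ofHom φ)) :=
    hsq.of_iso (Iso.refl _) (Iso.refl _) (Iso.refl _) S₁.isoSpec (by simp) (by simp)
      (by simp; rfl) (by rw [hφ]; simp)
  refine ⟨CohIII.bcCx φ P, finite_bcCx_X_aux P φ hP.1, fun i => ?_, fun n hn N => ?_, fun p => ?_⟩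
  · letI := φ.toAlgebra
    have := hP.2.1 i
    exact inferInstanceAs (Module.Free A (A ⊗[A₁] P.X i))
  · obtain ⟨e⟩ := nonempty_bcT_iso P φ n
    haveI : Subsingleton ((CohIII.TFun (CohIII.bcCx φ P) n).obj N) :=
      AddCommGrpCat.subsingleton_of_isZero ((Functor.map_isZero (forget₂ (ModuleCat.{u} A₁) AddCommGrpCat.{u})
        (hP.2.2.2.1 n hn ((ModuleCat.restrictScalars φ).obj N))).of_iso (e.app N))
    exact @ModuleCat.isZero_of_subsingleton _ _ ((CohIII.TFun (CohIII.bcCx φ P) n).obj N) ‹_›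
  · obtain ⟨b⟩ := nonempty_bcT_iso P φ (-(p : ℤ))
    obtain ⟨e₁⟩ := hP.2.2.2.2.1 p
    obtain ⟨e₂⟩ := nonempty_HAb_bc_iso φ q hsq' hF₁.1 p
    exact ⟨b ≪≫ Functor.isoWhiskerLeft _ e₁ ≪≫ e₂.symm ≪≫
      Functor.isoWhiskerRight (Functor.isoWhiskerLeft (tilde.functor (CommRingCat.of A))
        (Functor.isoWhiskerLeft (Scheme.Modules.pullback (X ↘ Spec (CommRingCat.of A)))
          (DCoh.tensorBi.flip.mapIso θ))) _⟩

end Model

/-- Factor `r` of `A` splitting the degree zero cohomology of `F`. -/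
def IsGood0 {A : Type u} [CommRing A] {X : Scheme.{u}} (π : X ⟶ Spec (CommRingCat.of A)) (F : X.Modules) (r : A) :
    Prop :=
  (∀ (B : Type u) [CommRing B] (φ : A →+* B) (X' : Scheme.{u}) (g : X' ⟶ X)
      (pB : X' ⟶ Spec (CommRingCat.of B)) (h : IsPullback g pB π (Spec.map (CommRingCat.ofHom φ))),
      IsUnit (φ r) → IsIso (CohBC.bc0 π (Spec.map (CommRingCat.ofHom φ)) pB g h.w F)) ∧
  letI := secModule (Coh.toGlobal π) F (⊤ : X.Opens)
  ∃ (N : Type u) (_ : AddCommGroup N) (_ : Module A N) (_ : Module.Finite A N) (_ : Module.Free A N)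
    (a : Γ(F, (⊤ : X.Opens)) →ₗ[A] N) (b : N →ₗ[A] Γ(F, (⊤ : X.Opens))), b ∘ₗ a = r • LinearMap.id

section Sheaf

variable {A B : Type u} [CommRing A] [CommRing B] (φ : A →+* B) {X X' : Scheme.{u}}
  [X.Over (Spec (CommRingCat.of A))] [X'.Over (Spec (CommRingCat.of B))] (g : X' ⟶ X)
  (h : IsPullback g (X' ↘ Spec (CommRingCat.of B)) (X ↘ Spec (CommRingCat.of A))
    (Spec.map (CommRingCat.ofHom φ)))
  [QuasiCompact (X ↘ Spec (CommRingCat.of A))] [QuasiSeparated (X ↘ Spec (CommRingCat.of A))]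
  {F : X.Modules} (hF : Coh.IsQCoh F)

include hF in
theorem isIso_bc0_and_surjective_sectionsBC :
    (Function.Bijective (sectionsBC φ g h (F := F)) →
      IsIso (CohBC.bc0 (X ↘ Spec (CommRingCat.of A)) (Spec.map (CommRingCat.ofHom φ))
        (X' ↘ Spec (CommRingCat.of B)) g h.w F)) ∧
    (Epi (CohBC.bc0 (X ↘ Spec (CommRingCat.of A)) (Spec.map (CommRingCat.ofHom φ))
        (X' ↘ Spec (CommRingCat.of B)) g h.w F) → Function.Surjective (sectionsBC φ g h (F := F))) := by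
  letI alg : Algebra A B := φ.toAlgebra
  let pA := X ↘ Spec (CommRingCat.of A)
  let pB := X' ↘ Spec (CommRingCat.of B)
  let σ := Spec.map (CommRingCat.ofHom φ)
  let F' := (Scheme.Modules.pullback g).obj F
  haveI : QuasiCompact pB := MorphismProperty.of_isPullback h inferInstance
  haveI : QuasiSeparated pB := MorphismProperty.of_isPullback h inferInstance
  let β := CohBC.bc0 pA σ pB g h.w F
  let G := (Scheme.Modules.pushforward pA).obj F
  have hG : Coh.IsQCoh G := QCoh.isQCoh_pushforward pA hF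
  have hN : Coh.IsQCoh ((Scheme.Modules.pullback σ).obj G) := QCoh.isQCoh_pullback σ hG
  have hQ : Coh.IsQCoh ((Scheme.Modules.pushforward pB).obj F') :=
    QCoh.isQCoh_pushforward pB (QCoh.isQCoh_pullback g hF)
  letI := secModule (Coh.toGlobal pA) F (⊤ : X.Opens)
  letI := secModule (Coh.toGlobal pB) F' (⊤ : X'.Opens)
  letI := secModule ((Coh.toGlobal pB).comp (algebraMap A B)) F' (⊤ : X'.Opens)
  haveI : IsScalarTower A B Γ(F', (⊤ : X'.Opens)) := .of_algebraMap_smul fun _ _ => rfl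
  let L := sectionsBC φ g h (F := F)
  have hle : (⊤ : (Spec (CommRingCat.of B)).Opens) ≤ σ ⁻¹ᵁ ⊤ := le_top
  letI aT : Algebra Γ(Spec (CommRingCat.of A), ⊤) Γ(Spec (CommRingCat.of B), ⊤) := (σ.appLE ⊤ ⊤ hle).hom.toAlgebra
  letI : Module Γ(Spec (CommRingCat.of A), ⊤) Γ((Scheme.Modules.pullback σ).obj G, ⊤) :=
    Module.compHom _ (σ.appLE ⊤ ⊤ hle).hom
  haveI : IsScalarTower Γ(Spec (CommRingCat.of A), ⊤) Γ(Spec (CommRingCat.of B), ⊤)
      Γ((Scheme.Modules.pullback σ).obj G, ⊤) := .of_algebraMap_smul fun _ _ => rfl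
  obtain ⟨l, hl, hb⟩ := ExistEasy.exists_pullSec_baseChange σ hG (isAffineOpen_top _) (isAffineOpen_top _) hle
  let Φ : Γ(F, (⊤ : X.Opens)) →+ Γ((Scheme.Modules.pullback σ).obj G, ⊤) :=
    AddMonoidHom.mk' (fun y => l (show Γ(G, ⊤) from y)) fun a b => map_add l _ _
  have hΦ : ∀ (a : A) y, Φ (a • y) = (Scheme.ΓSpecIso (CommRingCat.of B)).inv.hom (φ a) • Φ y := by
    intro a y
    have h1 := l.map_smul ((Scheme.ΓSpecIso (CommRingCat.of A)).inv.hom a) (show Γ(G, ⊤) from y)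
    have h2 : σ.appLE ⊤ ⊤ hle ((Scheme.ΓSpecIso (CommRingCat.of A)).inv.hom a) =
        (Scheme.ΓSpecIso (CommRingCat.of B)).inv.hom (φ a) := by
      rw [show σ.appLE ⊤ ⊤ hle = σ.appTop from (Scheme.Hom.app_eq_appLE σ).symm]
      exact (congr($(Scheme.ΓSpecIso_inv_naturality (CommRingCat.ofHom φ)) a)).symm
    refine Eq.trans ?_ (h1.trans (congrArg (· • l (show Γ(G, ⊤) from y)) h2))
    refine congrArg l ?_
    exact (congrArg (· • (show Γ(F, (⊤ : X.Opens)) from y)) (QCoh.ringMap_id (U := (⊤ : X.Opens)) (homOfLE le_top)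
      (Coh.toGlobal pA a))).trans rfl
  letI : Module B Γ((Scheme.Modules.pullback σ).obj G, ⊤) :=
    Module.compHom _ (Scheme.ΓSpecIso (CommRingCat.of B)).inv.hom
  letI : Module A Γ((Scheme.Modules.pullback σ).obj G, ⊤) :=
    Module.compHom _ ((Scheme.ΓSpecIso (CommRingCat.of B)).inv.hom.comp φ)
  haveI : IsScalarTower A B Γ((Scheme.Modules.pullback σ).obj G, ⊤) :=
    .of_algebraMap_smul fun _ _ => rfl
  let Φl : Γ(F, (⊤ : X.Opens)) →ₗ[A] Γ((Scheme.Modules.pullback σ).obj G, ⊤) :=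
    { toFun := Φ, map_add' := map_add Φ, map_smul' := hΦ }
  let Ψ := Φl.liftBaseChange B
  have hβΨ : ∀ t, (show Γ(F', (⊤ : X'.Opens)) from β.app ⊤ (Ψ t)) = L t := by
    intro t
    induction t using TensorProduct.induction_on with
    | zero => simp only [map_zero]
    | add a b ha hb => simp only [map_add]; rw [← ha, ← hb]
    | tmul c x =>
      have h1 : (show Γ(F', (⊤ : X'.Opens)) from β.app ⊤ (Φ x)) =
          secMap g ((Scheme.Modules.pullbackPushforwardAdjunction g).unit.app F) (V := (⊤ : X.Opens))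
            (W := (⊤ : X'.Opens)) le_top x :=
        (congrArg (β.app ⊤) (hl _)).trans (bc0_app_pullSec pA σ pB g h.w F hle x)
      show _ = LinearMap.liftBaseChange B _ (c ⊗ₜ[A] x)
      rw [show Ψ (c ⊗ₜ[A] x) = c • Φl x from LinearMap.liftBaseChange_tmul _ _ _ _, LinearMap.liftBaseChange_tmul]
      refine (Scheme.Modules.Hom.app_smul β _ _).trans ?_
      refine Eq.trans ?_ (congrArg (c • ·) h1)
      exact ((congrArg (· • (show Γ(F', (⊤ : X'.Opens)) from β.app ⊤ (Φ x)))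
        (QCoh.ringMap_id (U := (⊤ : X'.Opens)) (homOfLE le_top) (Coh.toGlobal pB c))).trans rfl).symm
  have hΨ : Function.Surjective Ψ := fun z => by
    refine hb.inductionOn z (fun z => ∃ t, Ψ t = z) ⟨0, map_zero Ψ⟩ (fun x => ?_) (fun c n => ?_) ?_
    · exact ⟨(1 : B) ⊗ₜ[A] (show Γ(F, (⊤ : X.Opens)) from x),
        (LinearMap.liftBaseChange_tmul _ _ _ _).trans (one_smul B _)⟩
    · rintro ⟨t, rfl⟩
      obtain ⟨b, rfl⟩ := (Scheme.ΓSpecIso (CommRingCat.of B)).commRingCatIsoToRingEquiv.symm.surjective c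
      exact ⟨b • t, map_smul Ψ b t⟩
    · rintro _ _ ⟨t, rfl⟩ ⟨t', rfl⟩
      exact ⟨t + t', map_add Ψ t t'⟩
  refine ⟨fun hL => FComplLib.isIso_of_bijective_app_top hN hQ β ⟨?_, ?_⟩, fun hβ s => ?_⟩
  · refine (injective_iff_map_eq_zero (β.app ⊤).hom).2 fun z hz => ?_
    obtain ⟨t, rfl⟩ := hΨ z
    rw [hL.1 ((hβΨ t).symm.trans (hz.trans (map_zero L).symm)), map_zero]
  · intro s
    obtain ⟨t, ht⟩ := hL.2 (show Γ(F', (⊤ : X'.Opens)) from s)
    exact ⟨Ψ t, (hβΨ t).trans ht⟩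
  · haveI : Epi β := hβ
    obtain ⟨z, hz⟩ := QCoh.app_surjective_of_epi hN hQ β (isAffineOpen_top _)
      (show Γ((Scheme.Modules.pushforward pB).obj F', ⊤) from s)
    obtain ⟨t, rfl⟩ := hΨ z
    exact ⟨t, (hβΨ t).symm.trans hz⟩

end Sheaf

section Good

variable {A : Type u} [CommRing A]

theorem muT_map {ι : Type} {c : ComplexShape ι} (K : HomologicalComplex (ModuleCat.{u} A) c) (p : ι)
    {M N : ModuleCat.{u} A} (f : M ⟶ N) (t : CohIII.T K p (ModuleCat.of A A) ⊗[A] M) :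
    (CohIII.TFun K p).map f (muT K p M t) = muT K p N (f.hom.lTensor _ t) := by
  induction t using TensorProduct.induction_on with
  | zero => simp
  | add a b ha hb => simp only [map_add, ha, hb]
  | tmul x m =>
    rw [LinearMap.lTensor_tmul, muT_tmul, muT_tmul, ← ConcreteCategory.comp_apply, ← Functor.map_comp]
    exact congrArg (fun t => (CohIII.TFun K p).map t x) (ModuleCat.hom_ext (LinearMap.ext fun a => map_smul f.hom a m))

theorem surjective_muT_of_iso {ι : Type} {c : ComplexShape ι} (K : HomologicalComplex (ModuleCat.{u} A) c) (p : ι)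
    {M N : ModuleCat.{u} A} (f : M ≅ N) (h : Function.Surjective (muT K p M)) :
    Function.Surjective (muT K p N) := fun y => by
  obtain ⟨t, ht⟩ := h ((CohIII.TFun K p).map f.inv y)
  refine ⟨f.hom.hom.lTensor _ t, (muT_map K p f.hom t).symm.trans ?_⟩
  rw [ht, ← ConcreteCategory.comp_apply, ← Functor.map_comp, f.inv_hom_id, CategoryTheory.Functor.map_id]
  rfl

theorem clsA_eq_zero' {ι : Type} {c : ComplexShape ι} (K : HomologicalComplex (ModuleCat.{u} A) c) (p : ι) {q : ι}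
    (h : c.prev p = q) {z : cyK K p} : clsA K p z = 0 ↔ ∃ v, (K.d q p).hom v = z.1 := by
  subst h; exact clsA_eq_zero K p

theorem exists_homotopy_of_surjective' {ι : Type} {c : ComplexShape ι} (K : HomologicalComplex (ModuleCat.{u} A) c)
    (hfin : ∀ i, Module.Finite A (K.X i)) (hfree : ∀ i, Module.Free A (K.X i)) (p : ι) {q : ι} (hq : c.next p = q)
    (P : Ideal A) [P.IsPrime] (h : Function.Surjective (muT K p (ModuleCat.of A P.ResidueField))) :
    ∃ (r : A) (H : K.X q →ₗ[A] K.X p), r ∉ P ∧ (K.d p q).hom ∘ₗ H ∘ₗ (K.d p q).hom = r • (K.d p q).hom := by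
  subst hq
  haveI := hfin; haveI := hfree
  exact exists_homotopy_of_surjective K p P h

variable {X : Scheme.{u}} [X.Over (Spec (CommRingCat.of A))]

/-- Split differentials on both sides make the homology a direct summand up to a factor. -/
theorem exists_retract_T {ι : Type} {c : ComplexShape ι} (P : HomologicalComplex (ModuleCat.{u} A) c) (o p : ι)
    (hprev : c.prev p = o) {H : P.X (c.next p) →ₗ[A] P.X p} {r₀ : A}
    (hH : (P.d p (c.next p)).hom ∘ₗ H ∘ₗ (P.d p (c.next p)).hom = r₀ • (P.d p (c.next p)).hom)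
    {H₁ : P.X p →ₗ[A] P.X o} {r₁ : A} (hH₁ : (P.d o p).hom ∘ₗ H₁ ∘ₗ (P.d o p).hom = r₁ • (P.d o p).hom) :
    ∃ (a : CohIII.T P p (ModuleCat.of A A) →ₗ[A] P.X p) (b : P.X p →ₗ[A] CohIII.T P p (ModuleCat.of A A)),
      b ∘ₗ a = (r₀ * r₁) • LinearMap.id := by
  let d₁ := (P.d o p).hom
  let a₀ : cyK P p →ₗ[A] P.X p := (r₁ • LinearMap.id - d₁ ∘ₗ H₁) ∘ₗ (cyK P p).subtype
  have ha₀ : LinearMap.ker (clsA P p) ≤ LinearMap.ker a₀ := fun z hz => by
    obtain ⟨v, hv⟩ := (clsA_eq_zero' P p hprev).1 hz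
    show r₁ • (z.1 : P.X p) - d₁ (H₁ z.1) = 0
    rw [← hv, show d₁ (H₁ (d₁ v)) = r₁ • d₁ v from DFunLike.congr_fun hH₁ v, sub_self]
  let aT : CohIII.T P p (ModuleCat.of A A) →ₗ[A] P.X p :=
    (LinearMap.ker (clsA P p)).liftQ a₀ ha₀ ∘ₗ
      ((clsA P p).quotKerEquivOfSurjective (clsA_surjective P p)).symm.toLinearMap
  have haT : ∀ z, aT (clsA P p z) = a₀ z := fun z => by
    show (LinearMap.ker (clsA P p)).liftQ a₀ ha₀ (((clsA P p).quotKerEquivOfSurjective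
      (clsA_surjective P p)).symm (clsA P p z)) = a₀ z
    rw [show ((clsA P p).quotKerEquivOfSurjective (clsA_surjective P p)).symm (clsA P p z) =
      Submodule.Quotient.mk z from (LinearEquiv.symm_apply_eq _).2 rfl]
    rfl
  let d := (P.d p (c.next p)).hom
  let ρ : P.X p →ₗ[A] cyK P p := (r₀ • LinearMap.id - H ∘ₗ d).codRestrict _ fun x => by
    show d (r₀ • x - H (d x)) = 0
    rw [map_sub, map_smul, show d (H (d x)) = r₀ • d x from DFunLike.congr_fun hH x, sub_self]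
  refine ⟨aT, clsA P p ∘ₗ ρ, LinearMap.ext fun x => ?_⟩
  show clsA P p (ρ (aT x)) = (r₀ * r₁) • x
  obtain ⟨z, rfl⟩ := clsA_surjective P p x
  rw [haT, ← map_smul (clsA P p), ← sub_eq_zero, ← map_sub, clsA_eq_zero' P p hprev]
  refine ⟨-(r₀ • H₁ z.1), ?_⟩
  show d₁ (-(r₀ • H₁ z.1)) = (r₀ • (r₁ • (z.1 : P.X p) - d₁ (H₁ z.1)) -
    H (d (r₁ • (z.1 : P.X p) - d₁ (H₁ z.1)))) - (r₀ * r₁) • (z.1 : P.X p)
  have hd1 : d (d₁ (H₁ z.1)) = 0 := range_le_ker P p o _
  rw [map_sub d, map_smul d, show d z.1 = 0 from z.2, hd1, smul_zero, sub_zero, map_zero, sub_zero,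
    smul_sub, smul_smul, map_neg, map_smul]
  abel

theorem exists_isGood0_of_homotopy [IsProper (X ↘ Spec (CommRingCat.of A))]
    {F : X.Modules} (hF : CohB1.IsFP F) {P : ChainComplex (ModuleCat.{u} A) ℤ} (hP : IsNatModel F P) (𝔭 : Ideal A)
    [𝔭.IsPrime] {r₀ : A}
    {H : P.X ((ComplexShape.down ℤ).next (-((0 : ℕ) : ℤ))) →ₗ[A] P.X (-((0 : ℕ) : ℤ))} (hr₀ : r₀ ∉ 𝔭)
    (hH : (P.d (-((0 : ℕ) : ℤ)) ((ComplexShape.down ℤ).next (-((0 : ℕ) : ℤ)))).hom ∘ₗ H ∘ₗ
      (P.d (-((0 : ℕ) : ℤ)) ((ComplexShape.down ℤ).next (-((0 : ℕ) : ℤ)))).hom =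
      r₀ • (P.d (-((0 : ℕ) : ℤ)) ((ComplexShape.down ℤ).next (-((0 : ℕ) : ℤ)))).hom) :
    ∃ r : A, r ∉ 𝔭 ∧ IsGood0 (X ↘ Spec (CommRingCat.of A)) F r := by
  let π := X ↘ Spec (CommRingCat.of A)
  haveI : CompactSpace X := QuasiCompact.compactSpace_of_compactSpace π
  haveI : X.IsSeparated := ⟨by
    rw [← Limits.terminal.comp_from π]
    infer_instance⟩
  have hq : Coh.IsQCoh F := QCoh.isQCoh_of_isFP hF
  obtain ⟨κ, _, U, hcov, hU⟩ := exists_affine_cover (X := X)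
  obtain ⟨e₁⟩ := hP.2.2.2 0
  obtain ⟨e₂⟩ := nonempty_tfun_iso (A := A) F hq hcov hU 0
  let e := e₁ ≪≫ e₂.symm
  let p0 : ℤ := -((0 : ℕ) : ℤ)
  let C := cechA (A := A) F U
  have hq1 : (ComplexShape.down ℤ).next (p0 + 1) = p0 := by simp [p0]
  obtain ⟨r₁, H₁, hr₁, hH₁⟩ := exists_homotopy_of_surjective' P hP.1 hP.2.1 (p0 + 1) hq1 𝔭
    (fun y => ⟨0, by
      haveI := ModuleCat.subsingleton_of_isZero (hP.2.2.1 (p0 + 1) (by simp [p0]) (ModuleCat.of A 𝔭.ResidueField))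
      exact Subsingleton.elim _ _⟩)
  refine ⟨r₀ * r₁, Ideal.IsPrime.mul_notMem ‹_› hr₀ hr₁, fun B _ φ X' g pB h hu => ?_, ?_⟩
  · letI : X'.Over (Spec (CommRingCat.of B)) := ⟨pB⟩
    refine (isIso_bc0_and_surjective_sectionsBC φ g h hq).1
      ((sectionsBC_iff φ g h hq U hU hcov).1 (bijective_muT_congr e
        (bijective_muT_of_homotopy P p0 _ H r₀ hH ?_)))
    have hu0 : IsUnit (φ r₀) := isUnit_of_mul_isUnit_left (map_mul φ r₀ r₁ ▸ hu)
    exact hu0.unit.mulLeft.bijective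
  · letI := secModule (Coh.toGlobal π) F (⊤ : X.Opens)
    have hd0 : (ComplexShape.up ℕ).prev 0 = 0 := by simp
    have hclsC : Function.Bijective (clsA C 0) := ⟨(injective_iff_map_eq_zero _).2 fun z hz => by
      obtain ⟨v, hv⟩ := (clsA_eq_zero' C 0 hd0).1 hz
      exact Subtype.ext (hv.symm.trans (by rw [C.shape 0 0 (by simp)]; rfl)), clsA_surjective C 0⟩
    obtain ⟨eA, -, -⟩ := muT_natural e (ModuleCat.of A A)
    let ε : Γ(F, (⊤ : X.Opens)) ≃ₗ[A] CohIII.T P p0 (ModuleCat.of A A) :=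
      ((augEquiv (Coh.toGlobal π) U F hcov).trans (LinearEquiv.ofBijective _ hclsC)).trans eA.symm
    obtain ⟨aT, bT, hab⟩ := exists_retract_T P (p0 + 1) p0 (by simp) hH hH₁
    exact ⟨P.X p0, inferInstance, inferInstance, hP.1 _, hP.2.1 _, aT ∘ₗ ε.toLinearMap, ε.symm.toLinearMap ∘ₗ bT,
      LinearMap.ext fun x => ε.injective (by
        show ε (ε.symm (bT (aT (ε x)))) = ε ((r₀ * r₁) • x)
        rw [LinearEquiv.apply_symm_apply, map_smul]
        exact DFunLike.congr_fun hab (ε x))⟩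


theorem exists_homotopy_of_epi [IsProper (X ↘ Spec (CommRingCat.of A))]
    {F : X.Modules} (hF : CohB1.IsFP F)
    {P : ChainComplex (ModuleCat.{u} A) ℤ} (hP : IsNatModel F P) (𝔭 : Ideal A) [𝔭.IsPrime]
    (X₀ : Scheme.{u}) (g₀ : X₀ ⟶ X) (p₀ : X₀ ⟶ Spec (CommRingCat.of 𝔭.ResidueField))
    (h₀ : IsPullback g₀ p₀ (X ↘ Spec (CommRingCat.of A)) (Spec.map (CommRingCat.ofHom (algebraMap A 𝔭.ResidueField))))
    (hepi : Epi (CohBC.bc0 (X ↘ Spec (CommRingCat.of A))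
      (Spec.map (CommRingCat.ofHom (algebraMap A 𝔭.ResidueField))) p₀ g₀ h₀.w F)) :
    ∃ (r : A) (H : P.X ((ComplexShape.down ℤ).next (-((0 : ℕ) : ℤ))) →ₗ[A] P.X (-((0 : ℕ) : ℤ))), r ∉ 𝔭 ∧
      (P.d (-((0 : ℕ) : ℤ)) ((ComplexShape.down ℤ).next (-((0 : ℕ) : ℤ)))).hom ∘ₗ H ∘ₗ
        (P.d (-((0 : ℕ) : ℤ)) ((ComplexShape.down ℤ).next (-((0 : ℕ) : ℤ)))).hom =
        r • (P.d (-((0 : ℕ) : ℤ)) ((ComplexShape.down ℤ).next (-((0 : ℕ) : ℤ)))).hom := by
  let π := X ↘ Spec (CommRingCat.of A)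
  haveI : CompactSpace X := QuasiCompact.compactSpace_of_compactSpace π
  haveI : X.IsSeparated := ⟨by
    rw [← Limits.terminal.comp_from π]
    infer_instance⟩
  have hq : Coh.IsQCoh F := QCoh.isQCoh_of_isFP hF
  obtain ⟨κ, _, U, hcov, hU⟩ := exists_affine_cover (X := X)
  obtain ⟨e₁⟩ := hP.2.2.2 0
  obtain ⟨e₂⟩ := nonempty_tfun_iso (A := A) F hq hcov hU 0
  let e := e₁ ≪≫ e₂.symm
  let p0 : ℤ := -((0 : ℕ) : ℤ)
  have hκ : Function.Surjective (muT P p0 (ModuleCat.of A 𝔭.ResidueField)) := by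
    letI : X₀.Over (Spec (CommRingCat.of 𝔭.ResidueField)) := ⟨p₀⟩
    have h1 := (isIso_bc0_and_surjective_sectionsBC (algebraMap A 𝔭.ResidueField) g₀ h₀ hq).2 hepi
    have h2 := surjective_muT_congr e.symm
      ((sectionsBC_iff (algebraMap A 𝔭.ResidueField) g₀ h₀ hq U hU hcov).2 h1)
    let f : ((ModuleCat.restrictScalars (algebraMap A 𝔭.ResidueField)).obj
        (ModuleCat.of 𝔭.ResidueField 𝔭.ResidueField)) ≅ ModuleCat.of A 𝔭.ResidueField :=
      let l : ((ModuleCat.restrictScalars (algebraMap A 𝔭.ResidueField)).obj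
          (ModuleCat.of 𝔭.ResidueField 𝔭.ResidueField)) ≃ₗ[A] (ModuleCat.of A 𝔭.ResidueField) :=
        { toFun := fun x => (x : 𝔭.ResidueField)
          invFun := fun x => (x : 𝔭.ResidueField)
          left_inv := fun _ => rfl
          right_inv := fun _ => rfl
          map_add' := fun _ _ => rfl
          map_smul' := fun a x => (Algebra.smul_def (A := 𝔭.ResidueField) a (show 𝔭.ResidueField from x)).symm }
      l.toModuleIso
    exact surjective_muT_of_iso P p0 f h2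
  obtain ⟨r₀, H, hr₀, hH⟩ := exists_homotopy_of_surjective' P hP.1 hP.2.1 p0 rfl 𝔭 hκ
  exact ⟨r₀, H, hr₀, hH⟩

theorem exists_isGood0 [IsProper (X ↘ Spec (CommRingCat.of A))]
    [LocallyOfFinitePresentation (X ↘ Spec (CommRingCat.of A))] {F : X.Modules} (hF : CohB1.IsFP F)
    (hfl : FlatMod.IsFlatOver (X ↘ Spec (CommRingCat.of A)) F) (𝔭 : Ideal A) [𝔭.IsPrime]
    (X₀ : Scheme.{u}) (g₀ : X₀ ⟶ X) (p₀ : X₀ ⟶ Spec (CommRingCat.of 𝔭.ResidueField))
    (h₀ : IsPullback g₀ p₀ (X ↘ Spec (CommRingCat.of A)) (Spec.map (CommRingCat.ofHom (algebraMap A 𝔭.ResidueField))))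
    (hepi : Epi (CohBC.bc0 (X ↘ Spec (CommRingCat.of A))
      (Spec.map (CommRingCat.ofHom (algebraMap A 𝔭.ResidueField))) p₀ g₀ h₀.w F)) :
    ∃ r : A, r ∉ 𝔭 ∧ IsGood0 (X ↘ Spec (CommRingCat.of A)) F r := by
  obtain ⟨P, hP⟩ := exists_isNatModel hF hfl
  obtain ⟨r₀, H, hr₀, hH⟩ := exists_homotopy_of_epi hF hP 𝔭 X₀ g₀ p₀ h₀ hepi
  exact exists_isGood0_of_homotopy hF hP 𝔭 hr₀ hH

/-- A split incoming differential at a point where the fibre complex is exact. -/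
theorem exists_homotopy_of_exact {R M N L : Type u} [CommRing R] [AddCommGroup M] [Module R M] [AddCommGroup N]
    [Module R N] [AddCommGroup L] [Module R L] [Module.Free R M] [Module.Finite R M] [Module.Free R N]
    [Module.Finite R N] [Module.Free R L] [Module.Finite R L] (d : M →ₗ[R] N) (e : N →ₗ[R] L) (p : Ideal R)
    [p.IsPrime] (hde : e ∘ₗ d = 0)
    (h : Function.Exact (d.baseChange p.ResidueField) (e.baseChange p.ResidueField)) :
    ∃ (r : R) (H : N →ₗ[R] M), r ∉ p ∧ d ∘ₗ H ∘ₗ d = r • d := by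
  obtain ⟨r, hr, hrange, H, hH⟩ := exists_local_homotopy d e p hde h
  let π : N →ₗ[R] N := r • (r • LinearMap.id - H ∘ₗ e)
  have hπ : ∀ x, π x ∈ LinearMap.range d := fun x => hrange _ (by
    show e (r • x - H (e x)) = 0
    rw [map_sub, map_smul, show e (H (e x)) = r • e x from DFunLike.congr_fun hH x, sub_self])
  obtain ⟨σ, hσ⟩ := Module.projective_lifting_property d.rangeRestrict (LinearMap.codRestrict _ π hπ)
    (LinearMap.surjective_rangeRestrict d)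
  refine ⟨r * r, σ, Ideal.IsPrime.mul_notMem ‹_› hr hr, LinearMap.ext fun x => ?_⟩
  have h1 : d (σ (d x)) = π (d x) := congrArg Subtype.val (DFunLike.congr_fun hσ (d x))
  show d (σ (d x)) = (r * r) • d x
  rw [h1]
  show r • (r • d x - H (e (d x))) = _
  rw [show e (d x) = 0 from DFunLike.congr_fun hde x, map_zero, sub_zero, smul_smul]

theorem exists_homotopy_of_exactAt (P : ChainComplex (ModuleCat.{u} A) ℤ) (hfin : ∀ i, Module.Finite A (P.X i))
    (hfree : ∀ i, Module.Free A (P.X i)) (p : ℤ) {q : ℤ} (hq : (ComplexShape.down ℤ).next p = q) (𝔭 : Ideal A)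
    [𝔭.IsPrime] (h : (CohIII.bcCx (algebraMap A 𝔭.ResidueField) P).ExactAt q) :
    ∃ (r : A) (H : P.X q →ₗ[A] P.X p), r ∉ 𝔭 ∧ (P.d p q).hom ∘ₗ H ∘ₗ (P.d p q).hom = r • (P.d p q).hom := by
  have hpq : q + 1 = p := by simp at hq; omega
  haveI := hfin; haveI := hfree
  exact exists_homotopy_of_exact (P.d p q).hom (P.d q (q - 1)).hom 𝔭 (d_comp_hom _ _ _)
    (function_exact_of_exactAt P inferInstance _ rfl hpq (by omega) h)

/-- Vanishing of the first fibre cohomology gives a good factor. -/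
theorem exists_isGood0_of_subsingleton [IsProper (X ↘ Spec (CommRingCat.of A))]
    [LocallyOfFinitePresentation (X ↘ Spec (CommRingCat.of A))] {F : X.Modules} (hF : CohB1.IsFP F)
    (hfl : FlatMod.IsFlatOver (X ↘ Spec (CommRingCat.of A)) F) (𝔭 : Ideal A) [𝔭.IsPrime]
    (X₀ : Scheme.{u}) (g₀ : X₀ ⟶ X) (p₀ : X₀ ⟶ Spec (CommRingCat.of 𝔭.ResidueField))
    (h₀ : IsPullback g₀ p₀ (X ↘ Spec (CommRingCat.of A)) (Spec.map (CommRingCat.ofHom (algebraMap A 𝔭.ResidueField))))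
    (h1 : Subsingleton (Coh.HH X₀ ((Scheme.Modules.pullback g₀).obj F) 1)) :
    ∃ r : A, r ∉ 𝔭 ∧ IsGood0 (X ↘ Spec (CommRingCat.of A)) F r := by
  let π := X ↘ Spec (CommRingCat.of A)
  haveI : CompactSpace X := QuasiCompact.compactSpace_of_compactSpace π
  haveI : X.IsSeparated := ⟨by
    rw [← Limits.terminal.comp_from π]
    infer_instance⟩
  obtain ⟨P, hP⟩ := exists_isNatModel hF hfl
  letI : X₀.Over (Spec (CommRingCat.of 𝔭.ResidueField)) := ⟨p₀⟩
  obtain ⟨l⟩ := bcCx_isBCModel_aux (QCoh.isQCoh_of_isFP hF) P hP.2.2.2 (algebraMap A 𝔭.ResidueField) g₀ h₀ 1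
  haveI := h1
  haveI : Subsingleton ((CohIII.bcCx (algebraMap A 𝔭.ResidueField) P).homology (-((1 : ℕ) : ℤ))) :=
    l.symm.toEquiv.subsingleton
  obtain ⟨r₀, H, hr₀, hH⟩ := exists_homotopy_of_exactAt P hP.1 hP.2.1 (-((0 : ℕ) : ℤ)) rfl 𝔭 (by
    rw [show (ComplexShape.down ℤ).next (-((0 : ℕ) : ℤ)) = -((1 : ℕ) : ℤ) by simp]
    exact (HomologicalComplex.exactAt_iff_isZero_homology _ _).2 (ModuleCat.isZero_of_subsingleton _))
  exact exists_isGood0_of_homotopy hF hP 𝔭 hr₀ hH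

end Good

end Groth.Agent.PBC
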