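import Groth.Agent.S4867
import Groth.Agent.S4849
import Groth.Agent.RBC.Model
import Groth.Agent.QCoh.Support

/-!
# Noetherian models of proper morphisms with a flat module of finite presentation
-/

set_option autoImplicit false
set_option linter.style.haveILetI false
set_option backward.isDefEq.respectTransparency false
set_option backward.isDefEq.respectTransparency.types false

open CategoryTheory CategoryTheory.Limits AlgebraicGeometry Groth.Agent.MorLib Groth.Agent.MorLib.Desc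
  Groth.Agent.ConsPropLib

universe u

namespace Groth.Agent.PBC

open Groth.Agent

/-- Flatness of a module is inherited from a stage by a later stage. -/
theorem isFlatOver_of_stage {X₂ Si Sn Xj Yj : Scheme.{u}} (u₂ : X₂ ⟶ Si) (F : X₂.Modules)
    (h : Sn ⟶ Si) (fj : Xj ⟶ Yj) (pY : Yj ⟶ Si) (pX : Xj ⟶ X₂) (hXj : IsPullback pX fj u₂ pY)
    (w : Sn ⟶ Yj) (hw : w ≫ pY = h) (hflat : FlatMod.IsFlatOver fj ((Scheme.Modules.pullback pX).obj F)) :
    FlatMod.IsFlatOver (pullback.snd u₂ h)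
      ((Scheme.Modules.pullback (pullback.fst u₂ h)).obj F) := by
  let v : pullback u₂ h ⟶ Xj := hXj.lift (pullback.fst u₂ h) (pullback.snd u₂ h ≫ w)
    (by rw [Category.assoc, hw]; exact pullback.condition)
  have hc : IsPullback v (pullback.snd u₂ h) fj w :=
    IsPullback.of_right (by rw [hXj.lift_fst, hw]; exact IsPullback.of_hasPullback u₂ h)
      (hXj.lift_snd _ _ _) hXj
  intro x
  exact FibFlatMod.isFlatOverAt_bc hc pX _ (hXj.lift_fst _ _ _) F x (hflat _)

/-- A proper morphism of finite presentation to an affine scheme, with a flat module of finite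
presentation, comes from the same data over a noetherian affine scheme. -/
theorem exists_flat_mod_model {X S : Scheme.{u}} [IsAffine S] (f : X ⟶ S)
    [LocallyOfFinitePresentation f] [IsProper f] (F : X.Modules) (hF : CohB1.IsFP F)
    (hfl : FlatMod.IsFlatOver f F) :
    ∃ (S₁ X₁ : Scheme.{u}) (ρ : S ⟶ S₁) (f₁ : X₁ ⟶ S₁) (q : X ⟶ X₁) (F₁ : X₁.Modules),
      IsNoetherian S₁ ∧ IsAffine S₁ ∧ IsProper f₁ ∧ IsPullback q f f₁ ρ ∧ Coh.IsCoh F₁ ∧
        FlatMod.IsFlatOver f₁ F₁ ∧ Nonempty ((Scheme.Modules.pullback q).obj F₁ ≅ F) := by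
  let A : CommRingCat.{u} := Γ(S, ⊤)
  let f' : X ⟶ Spec A := f ≫ S.isoSpec.hom
  haveI : IsProper f' := inferInstanceAs (IsProper (f ≫ S.isoSpec.hom))
  haveI : LocallyOfFinitePresentation f' :=
    inferInstanceAs (LocallyOfFinitePresentation (f ≫ S.isoSpec.hom))
  obtain ⟨i, X₂, u₂, q, hlfp, hqc, F₂, hsq, hF₂, ⟨θ⟩⟩ := S4867.result_aux f' F hF
  let D := NoethApprox.diagram A
  let c := NoethApprox.cone A
  have hc : IsLimit c := NoethApprox.isLimit A
  haveI : ∀ {a b : (Finset A)ᵒᵖ} (t : a ⟶ b), IsAffineHom (D.map t) := fun t =>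
    NoethApprox.isAffineHom_map A t
  haveI : ∀ (a b : (Finset A)ᵒᵖ) (t : a ⟶ b), IsAffineHom (D.map t) := fun _ _ t => inferInstance
  haveI : ∀ a, IsAffine (D.obj a) := fun a => NoethApprox.isAffine_obj A a
  haveI : ∀ a, IsNoetherian (D.obj a) := fun a => NoethApprox.isNoetherian_obj A a
  haveI : LocallyOfFinitePresentation u₂ := hlfp
  haveI : QuasiCompact u₂ := hqc
  haveI : IsLocallyNoetherian X₂ := LocallyOfFiniteType.isLocallyNoetherian u₂
  haveI : CompactSpace X₂ := QuasiCompact.compactSpace_of_compactSpace u₂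
  haveI : QuasiSeparatedSpace X₂ := inferInstance
  haveI : QuasiSeparated u₂ := inferInstance
  have hqc₂ : Coh.IsQCoh F₂ := (QCoh.isCoh_iff_isFP.2 hF₂).1
  haveI : Coh.IsQCoh F₂ := hqc₂
  haveI : CompactSpace (D.obj i) := inferInstance
  have hflat' : FlatMod.IsFlatOver f' ((Scheme.Modules.pullback q).obj F₂) := fun x =>
    GrFlat5.isFlatOverAt_of_iso f' ((Scheme.Modules.pullbackId X).app F ≪≫ θ) x
      ((FibFlatMod.flatAt_openImmersion (f := f) (f' := f') (jX := 𝟙 X) (jY := S.isoSpec.inv)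
        (by simp [f']) F x).2 (hfl x))
  haveI : LocallyOfFinitePresentation (u₂ ≫ 𝟙 (D.obj i)) := by rwa [Category.comp_id]
  haveI : QuasiCompact (u₂ ≫ 𝟙 (D.obj i)) := by rwa [Category.comp_id]
  haveI : QuasiSeparated (u₂ ≫ 𝟙 (D.obj i)) := by rwa [Category.comp_id]
  have hY : IsPullback (c.π.app i) (𝟙 c.pt) (𝟙 (D.obj i)) (c.π.app i) :=
    haveI h1 : IsIso (𝟙 c.pt) := IsIso.id _
    haveI h2 : IsIso (𝟙 (D.obj i)) := IsIso.id _
    @IsPullback.of_vert_isIso _ _ _ _ _ _ _ _ _ _ h1 h2 ⟨(Category.comp_id _).trans (Category.id_comp _).symm⟩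
  obtain ⟨j, φj, Xj, Yj, fj, gj, pY, pX, hYj, hXj, hj⟩ :=
    (S4849.result D c hc i u₂ (𝟙 (D.obj i)) F₂ hF₂ f' (𝟙 c.pt) (c.π.app i) q
      hY hsq).1 hflat'
  have hp : IsProper (pullback.snd u₂ (c.π.app i)) :=
    of_two @IsProper hsq (IsPullback.of_hasPullback _ _) inferInstance
  obtain ⟨k, φk, hk⟩ := ConsPropLib.core_isProper _ D c hc (fun a b t => inferInstance) i
    inferInstance u₂ inferInstance inferInstance hlfp hp
  obtain ⟨n, α, β, hαβ⟩ := IsCofiltered.cospan φj φk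
  let γ : n ⟶ i := α ≫ φj
  haveI : IsIso gj := hYj.isIso_snd_of_isIso
  have hpY : pY = gj ≫ D.map φj := (Category.comp_id pY).symm.trans hYj.w
  have h1 : IsProper (pullback.snd u₂ (D.map γ)) := Desc.of_factor @IsProper hk
    (a := D.map β) (by rw [← D.map_comp, ← hαβ]) (IsPullback.of_hasPullback _ _)
  have h2 : FlatMod.IsFlatOver (pullback.snd u₂ (D.map γ))
      ((Scheme.Modules.pullback (pullback.fst u₂ (D.map γ))).obj F₂) :=
    isFlatOver_of_stage u₂ F₂ (D.map γ) fj pY pX hXj (D.map α ≫ inv gj)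
      (by rw [hpY, Category.assoc, IsIso.inv_hom_id_assoc, ← D.map_comp]) hj
  let qn : X ⟶ pullback u₂ (D.map γ) :=
    pullback.lift q (f' ≫ c.π.app n) (by rw [Category.assoc]; exact hsq.w.trans (congrArg (f' ≫ ·) (c.w γ).symm))
  have hn : IsPullback qn f' (pullback.snd u₂ (D.map γ)) (c.π.app n) :=
    IsPullback.of_right (by rw [pullback.lift_fst]; exact (c.w γ).symm ▸ hsq) (pullback.lift_snd _ _ _)
      (IsPullback.of_hasPullback _ _)
  haveI : IsLocallyNoetherian (pullback u₂ (D.map γ)) :=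
    LocallyOfFiniteType.isLocallyNoetherian (pullback.snd u₂ (D.map γ))
  exact ⟨D.obj n, _, S.isoSpec.hom ≫ c.π.app n, pullback.snd u₂ (D.map γ), qn, _, inferInstance,
    inferInstance, h1, hn.of_iso (Iso.refl _) (Iso.refl _) S.isoSpec.symm (Iso.refl _) (by simp)
      (by simp [f']) (by simp) (by simp),
    QCoh.isCoh_iff_isFP.2 (ModStLib.isFP_pullback _ hF₂), h2,
    ⟨(Scheme.Modules.pullbackComp qn _).app F₂ ≪≫
      (Scheme.Modules.pullbackCongr (pullback.lift_fst _ _ _)).app F₂ ≪≫ θ.symm⟩⟩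

end Groth.Agent.PBC
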